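/-
Facts on the stabiliser of a singular vector in the natural coordinates: small normal subgroups, invariant
isotropic subspaces, and two commutators in a group of order sixty-four.
-/
import Cfsg.Agent.Lib.U6Rec.Core

set_option autoImplicit false
set_option maxRecDepth 100000

namespace CfsgLib.U6Chz.Aut

open U6Rec

/-- Indices of inverses in the stabiliser. -/
def invL : List ℕ :=
  [0, 1, 129, 3, 131, 49, 181, 51, 183, 33, 169, 35, 171, 17, 157, 19,
    159, 13, 141, 15, 143, 63, 187, 61, 185, 47, 167, 45, 165, 29, 145, 31,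
    147, 9, 137, 11, 139, 59, 191, 57, 189, 41, 161, 43, 163, 27, 151, 25,
    149, 5, 133, 7, 135, 53, 177, 55, 179, 39, 175, 37, 173, 23, 155, 21,
    153, 65, 66, 67, 68, 69, 70, 71, 72, 73, 74, 75, 76, 77, 78, 79,
    80, 93, 82, 95, 86, 91, 84, 89, 90, 87, 88, 85, 92, 81, 94, 83,
    96, 105, 98, 107, 102, 111, 100, 109, 104, 97, 106, 99, 110, 103, 108, 101,
    112, 117, 114, 119, 116, 113, 118, 115, 122, 127, 120, 125, 126, 123, 124, 121,
    128, 2, 130, 4, 180, 50, 182, 52, 168, 34, 170, 36, 156, 18, 158, 20,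
    144, 30, 146, 32, 166, 48, 164, 46, 186, 64, 184, 62, 140, 14, 142, 16,
    160, 42, 162, 44, 150, 28, 148, 26, 136, 10, 138, 12, 190, 60, 188, 58,
    176, 54, 178, 56, 132, 6, 134, 8, 154, 24, 152, 22, 174, 40, 172, 38]

def sInv (j : ℕ) : ℕ := st (invL.getD j 0)

/-- A conjugate in the stabiliser. -/
def cS (j g : ℕ) : ℕ := comp (comp (st j) g) (sInv j)

/-- A few members of the stabiliser. -/
def fewL : List ℕ := [16, 33, 53, 77, 88, 139, 165]

/-- The elementary normal subgroups of order eight. -/
def blockL : List (List ℕ) :=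
  [[0, 66, 76, 78, 80, 82, 92, 94], [0, 66, 68, 70, 112, 114, 116, 118], [0, 66, 72, 74, 96, 98, 104, 106]]

/-- The invariant isotropic subspaces of sixteen vectors. -/
def planeL : List (List ℕ) :=
  [[0, 1, 2, 3, 4, 5, 6, 7, 64, 65, 66, 67, 68, 69, 70, 71],
    [0, 1, 2, 3, 8, 9, 10, 11, 128, 129, 130, 131, 136, 137, 138, 139],
    [0, 1, 2, 3, 12, 13, 14, 15, 192, 193, 194, 195, 204, 205, 206, 207]]

/-- A group of order sixty-four in the stabiliser. -/
def sylL : List ℕ :=
  [0, 1, 3, 5, 7, 9, 11, 13, 15, 17, 19, 21, 23, 25, 27, 29,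
    31, 33, 35, 37, 39, 41, 43, 45, 47, 49, 51, 53, 55, 57, 59, 61,
    63, 66, 68, 70, 72, 74, 76, 78, 80, 82, 84, 86, 88, 90, 92, 94,
    96, 98, 100, 102, 104, 106, 108, 110, 112, 114, 116, 118, 120, 122, 124, 126]

theorem inv_ok : ((List.range 192).all fun j => Nat.blt (invL.getD j 0) 192 && Nat.beq (comp (st j) (sInv j)) one) = true := by
  decide +kernel

theorem normal_class : ((List.range 192).all fun i => !Nat.beq (comp (st i) (st i)) one || Nat.beq i 0 || Nat.beq i 66 ||
    (blockL.any fun l => l.elem i) ||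
    (List.range 192).any fun j => !Nat.beq (comp (st i) (cS j (st i))) (comp (cS j (st i)) (st i))) = true := by
  decide +kernel

theorem block_gen : (blockL.all fun l => l.all fun i => Nat.beq i 0 || Nat.beq i 66 || l.all fun m =>
    let T := one :: fewL.map fun j => cS j (st i)
    T.elem (st m) || T.any fun a => T.elem (comp a (st m))) = true := by decide +kernel

theorem block_cross : ((List.range 3).all fun k => (List.range 3).all fun l => Nat.beq k l ||
    (blockL.getD k []).any fun a => (blockL.getD l []).any fun b => !Nat.beq (comp (st a) (st b)) (comp (st b) (st a))) = true := by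
  decide +kernel

theorem block_size : ∀ l ∈ blockL, (l.map st).Nodup ∧ l.length = 8 ∧ 0 ∈ l ∧ 66 ∈ l ∧ ∀ i ∈ l, i < 192 := by decide +kernel

theorem st_zero : st 0 = one ∧ st 66 ≠ one := by decide +kernel

theorem plane_class : ((List.range 256).all fun v => Nat.ble v 3 || !Nat.beq (polar 1 v) 0 || (planeL.any fun l => l.elem v) ||
    (List.range 192).any fun j => !Nat.beq (polar v (app (st j) v)) 0) = true := by decide +kernel

theorem plane_gen : (planeL.all fun l => l.all fun v => Nat.ble v 3 || l.all fun w =>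
    let T := 0 :: 1 :: fewL.map fun j => app (st j) v
    T.elem w || T.any fun a => T.elem (w ^^^ a)) = true := by decide +kernel

theorem plane_max : (planeL.all fun l => (List.range 256).all fun u => l.elem u ||
    l.any fun w => !Nat.beq (polar w u) 0) = true := by decide +kernel

theorem plane_size : ∀ l ∈ planeL, l.Nodup ∧ l.length = 16 ∧ ∀ v ∈ l, v < 256 := by decide +kernel

theorem point_centre : ((List.range 256).all fun u => Nat.ble u 1 ||
    (List.range 256).any fun v => Nat.beq (polar 1 v) 0 && !Nat.beq (polar u v) 0) = true := by decide +kernel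

theorem perp_count : ((List.range 256).filter fun v => Nat.beq (polar 1 v) 0).length = 128 := by decide +kernel

theorem syl_closed : ((sylL.map st).all fun a => (sylL.map st).all fun b => (sylL.map st).elem (comp a b)) = true := by
  decide +kernel

theorem syl_size : (sylL.map st).Nodup ∧ sylL.length = 64 ∧ 1 ∈ sylL ∧ 13 ∈ sylL ∧ 72 ∈ sylL ∧ ∀ i ∈ sylL, i < 192 := by
  decide +kernel

theorem syl_comm : comp (st 1) (st 13) ≠ comp (st 13) (st 1) ∧ comp (st 1) (st 72) ≠ comp (st 72) (st 1) ∧
    comp (comp (st 1) (st 13)) (comp (sInv 1) (sInv 13)) ≠ comp (comp (st 1) (st 72)) (comp (sInv 1) (sInv 72)) := by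
  decide +kernel

end CfsgLib.U6Chz.Aut
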