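/-
A centraliser whose image on the extraspecial group has a subgroup of index two in natural coordinates:
the coordinates, the lifts and the counting of subgroups of the extraspecial group.
-/
import Cfsg.Agent.Lib.U6Chz.Setup
import Cfsg.Agent.Lib.U6Chz.Aut.Checks
import Cfsg.Agent.Lib.U6Rec.Sq

set_option autoImplicit false
set_option maxRecDepth 100000
set_option linter.unusedVariables false

namespace CfsgLib.U6Chz.Aut

open U6Rec (app comp InU qf polar one st)

/-- The data: natural coordinates for a subgroup of index two of the action. -/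
structure Frame (G : Type*) [Group G] (X : Type*) [Group X] where
  D : Chz G
  π : ↥(Subgroup.centralizer ({D.z} : Set G)) →* X
  hk : ∀ h, π h = 1 ↔ (h : G) ∈ D.J
  hπ : Function.Surjective π
  N : Subgroup X
  hN : N.index = 2
  cardN : Nat.card N = 25920
  co : G → ℕ
  co_lt : ∀ j ∈ D.J, co j < 256
  co_mul : ∀ a ∈ D.J, ∀ b ∈ D.J, co (a * b) = co a ^^^ co b
  co_ker : ∀ j ∈ D.J, co j = 0 ↔ j = 1 ∨ j = D.z
  co_surj : ∀ v < 256, ∃ j ∈ D.J, co j = v
  sq : ∀ j ∈ D.J, j * j = if qf (co j) = 1 then D.z else 1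
  comm : ∀ a ∈ D.J, ∀ b ∈ D.J, Commute a b ↔ polar (co a) (co b) = 0
  r : ↥N → ℕ
  r_mem : ∀ x, InU (r x)
  r_surj : ∀ g, InU g → ∃ x, r x = g
  r_mul : ∀ x y, r (x * y) = comp (r x) (r y)
  r_inj : Function.Injective r
  r_conj : ∀ (h : ↥(Subgroup.centralizer ({D.z} : Set G))) (hh : π h ∈ N), ∀ j ∈ D.J,
    co ((h : G) * j * (h : G)⁻¹) = app (r ⟨π h, hh⟩) (co j)

/-- An inverse on the stabiliser. -/
theorem inv_left {j : ℕ} (hj : j < 192) : comp (st j) (sInv j) = one ∧ invL.getD j 0 < 192 := by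
  have h := List.all_eq_true.mp inv_ok j (List.mem_range.mpr hj)
  rw [Bool.and_eq_true, Nat.beq_eq] at h
  exact ⟨h.2, Nat.le_of_ble_eq_true h.1⟩

namespace Frame

variable {G : Type*} [Group G] {X : Type*} [Group X] (F : Frame G X)

theorem mem_C {h : G} : h ∈ Subgroup.centralizer ({F.D.z} : Set G) ↔ Commute h F.D.z :=
  Subgroup.mem_centralizer_singleton_iff

theorem normal : F.N.Normal := Subgroup.normal_of_index_eq_two F.hN

/-- The elements acting in the subgroup of index two. -/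
def In (h : G) : Prop := ∃ hh : h ∈ Subgroup.centralizer ({F.D.z} : Set G), F.π ⟨h, hh⟩ ∈ F.N

theorem In_J {j : G} (hj : j ∈ F.D.J) : F.In j := by
  refine ⟨F.mem_C.mpr (F.D.Jz j hj), ?_⟩
  rw [(F.hk ⟨j, F.mem_C.mpr (F.D.Jz j hj)⟩).mpr hj]; exact one_mem _

theorem In_mul {a b : G} (ha : F.In a) (hb : F.In b) : F.In (a * b) := by
  obtain ⟨ha, pa⟩ := ha
  obtain ⟨hb, pb⟩ := hb
  exact ⟨mul_mem ha hb, show F.π (⟨a, ha⟩ * ⟨b, hb⟩) ∈ F.N by rw [map_mul]; exact mul_mem pa pb⟩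

theorem In_conj {a h : G} (ha : F.In a) (hh : Commute h F.D.z) : F.In (h * a * h⁻¹) := by
  obtain ⟨ha, pa⟩ := ha
  have hh' := F.mem_C.mpr hh
  refine ⟨mul_mem (mul_mem hh' ha) (inv_mem hh'), ?_⟩
  show F.π (⟨h, hh'⟩ * ⟨a, ha⟩ * ⟨h, hh'⟩⁻¹) ∈ F.N
  rw [map_mul, map_mul, map_inv]
  exact F.normal.conj_mem _ pa _

theorem r_one : F.r 1 = one := by
  obtain ⟨x, hx⟩ := F.r_surj one U6Rec.inU_one
  have h : F.r x = F.r (x * 1) := by rw [mul_one]
  rw [F.r_mul, hx] at h
  rw [h, ← (F.r_mem 1).form, U6Rec.one_comp]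

theorem r_inv {x : ↥F.N} {j : ℕ} (hj : j < 192) (e : F.r x = st j) : F.r x⁻¹ = sInv j := by
  have h1 : comp (F.r x⁻¹) (st j) = one := by rw [← e, ← F.r_mul, inv_mul_cancel, F.r_one]
  have h2 := congrArg (fun g => comp g (sInv j)) h1
  rw [U6Rec.comp_assoc, (inv_left hj).1, (F.r_mem _).form] at h2
  rw [h2, sInv, show U6Rec.st (invL.getD j 0) = comp (st (invL.getD j 0)) one from (U6Rec.st_form _).symm, U6Rec.one_comp]

/-- An element with given coordinates of the action. -/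
theorem lift {g : ℕ} (hg : InU g) : ∃ h : G, Commute h F.D.z ∧ F.In h ∧ ∀ j ∈ F.D.J, F.co (h * j * h⁻¹) = app g (F.co j) := by
  obtain ⟨x, hx⟩ := F.r_surj g hg
  obtain ⟨h, hh⟩ := F.hπ x.1
  have hm : F.π h ∈ F.N := by rw [hh]; exact x.2
  refine ⟨h, F.mem_C.mp h.2, ⟨h.2, hm⟩, fun j hj => ?_⟩
  rw [F.r_conj h hm j hj, show (⟨F.π h, hm⟩ : ↥F.N) = x from Subtype.ext hh, hx]

theorem co_z : F.co F.D.z = 0 := (F.co_ker _ F.D.zJ).mpr (Or.inr rfl)

theorem co_one : F.co 1 = 0 := (F.co_ker 1 (one_mem _)).mpr (Or.inl rfl)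

theorem co_inv {j : G} (hj : j ∈ F.D.J) : F.co j⁻¹ = F.co j := by
  have h := F.co_mul j⁻¹ (inv_mem hj) j hj
  rw [inv_mul_cancel, F.co_one] at h
  exact U42Act.xzero h.symm

theorem co_eq {a b : G} (ha : a ∈ F.D.J) (hb : b ∈ F.D.J) (e : F.co a = F.co b) : a = b ∨ a = b * F.D.z := by
  have hm : F.co (b⁻¹ * a) = 0 := by rw [F.co_mul _ (inv_mem hb) _ ha, F.co_inv hb, e, Nat.xor_self]
  rcases (F.co_ker _ (mul_mem (inv_mem hb) ha)).mp hm with h | h
  · exact Or.inl (inv_mul_eq_one.mp h).symm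
  · exact Or.inr (by rw [← h]; group)

/-- A singular vector from an involution. -/
theorem sing {j : G} (hj : j ∈ F.D.J) (h2 : j * j = 1) (h1 : j ≠ 1) (hz : j ≠ F.D.z) : U6Rec.Sing (F.co j) := by
  refine ⟨F.co_lt j hj, fun e => ((F.co_ker j hj).mp e).elim h1 hz, ?_⟩
  have hl := U6Rec.qf_lt _ (F.co_lt j hj)
  by_contra hne
  have e := F.sq j hj
  rw [h2, if_pos (by omega)] at e
  exact F.D.z1 e.symm

/-- Moving a singular involution to the first vector. -/
theorem to_one {j : G} (hj : j ∈ F.D.J) (h2 : j * j = 1) (h1 : j ≠ 1) (hz : j ≠ F.D.z) :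
    ∃ h : G, Commute h F.D.z ∧ F.co (h⁻¹ * j * h) = 1 := by
  obtain ⟨i, hi, e⟩ := U6Rec.sing_rep (F.sing hj h2 h1 hz)
  obtain ⟨h, hh, -, hc⟩ := F.lift (U6Rec.inU_rep hi)
  have hm : h⁻¹ * j * h ∈ F.D.J := by
    have := F.D.conjJ _ hh.inv_left j hj
    rwa [inv_inv] at this
  have e2 := hc _ hm
  rw [show h * (h⁻¹ * j * h) * h⁻¹ = j by group, ← e] at e2
  exact ⟨h, hh, (U6Rec.inU_rep hi).unit.inj (F.co_lt _ hm) (by norm_num) e2.symm⟩

/-- Counting a subgroup of the extraspecial group through the coordinates. -/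
theorem card_co [Finite G] {K : Subgroup G} (hK : K ≤ F.D.J) (hz : F.D.z ∈ K) :
    Nat.card K = 2 * (F.co '' (K : Set G)).ncard := by
  classical
  choose s hs es using fun v : ↥(F.co '' (K : Set G)) => v.2
  let f : ↥(F.co '' (K : Set G)) × Bool → ↥K := fun p =>
    ⟨s p.1 * (if p.2 then F.D.z else 1), mul_mem (hs p.1) (by split <;> [exact hz; exact one_mem K])⟩
  have hf : Function.Bijective f := by
    refine ⟨?_, fun k => ?_⟩
    · rintro ⟨v, b⟩ ⟨w, c⟩ e
      have e' : s v * (if b then F.D.z else 1) = s w * (if c then F.D.z else 1) := congrArg Subtype.val e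
      have hvw : v = w := by
        have h := congrArg F.co e'
        rw [F.co_mul _ (hK (hs v)) _ (by split <;> [exact F.D.zJ; exact one_mem _]),
          F.co_mul _ (hK (hs w)) _ (by split <;> [exact F.D.zJ; exact one_mem _]), es, es] at h
        have h0 : ∀ b : Bool, F.co (if b then F.D.z else 1) = 0 := fun b => by cases b <;> simp [F.co_z, F.co_one]
        rw [h0, h0, Nat.xor_zero, Nat.xor_zero] at h
        exact Subtype.ext h
      subst hvw
      have := mul_left_cancel e'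
      cases b <;> cases c <;> simp_all [F.D.z1, F.D.z1.symm]
    · obtain ⟨v, hv⟩ : ∃ v : ↥(F.co '' (K : Set G)), v.1 = F.co k := ⟨⟨_, k, k.2, rfl⟩, rfl⟩
      rcases F.co_eq (hK k.2) (hK (hs v)) ((es v).trans hv).symm with e | e
      · exact ⟨(v, false), Subtype.ext (by show s v * _ = _; simp [← e])⟩
      · exact ⟨(v, true), Subtype.ext (by show s v * _ = _; simp [← e])⟩
  rw [← Nat.card_eq_of_bijective f hf, Nat.card_prod, Nat.card_coe_set_eq, Nat.card_eq_fintype_card, Fintype.card_bool,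
    mul_comm]

end Frame

end CfsgLib.U6Chz.Aut
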