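/-
The centraliser in the extraspecial group of a conjugate lying there, pulled back along the conjugating element.
-/
import Cfsg.Agent.Lib.U6Chz.Aut.Base
import Mathlib.GroupTheory.Sylow

set_option autoImplicit false
set_option maxRecDepth 100000
set_option linter.unusedVariables false

namespace CfsgLib.U6Chz.Aut

open U6Rec (app comp InU qf polar one st)

namespace Frame

variable {G : Type*} [Group G] {X : Type*} [Group X] (F : Frame G X)

/-- The pulled centraliser. -/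
def M (g : G) : Subgroup G where
  carrier := {m | g * m * g⁻¹ ∈ F.D.J ∧ Commute m F.D.z}
  one_mem' := ⟨by rw [mul_one, mul_inv_cancel]; exact one_mem _, Commute.one_left _⟩
  mul_mem' := fun {a b} ha hb => ⟨by
    rw [show g * (a * b) * g⁻¹ = g * a * g⁻¹ * (g * b * g⁻¹) by group]; exact mul_mem ha.1 hb.1, ha.2.mul_left hb.2⟩
  inv_mem' := fun {a} ha => ⟨by
    rw [show g * a⁻¹ * g⁻¹ = (g * a * g⁻¹)⁻¹ by group]; exact inv_mem ha.1, ha.2.inv_left⟩

variable {g : G}

theorem M_z (hx : g * F.D.z * g⁻¹ ∈ F.D.J) : F.D.z ∈ F.M g := ⟨hx, Commute.refl _⟩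

theorem pull_comm (hx : g * F.D.z * g⁻¹ ∈ F.D.J) : Commute (g⁻¹ * F.D.z * g) F.D.z := by
  have h := F.D.Jz _ hx
  show g⁻¹ * F.D.z * g * F.D.z = F.D.z * (g⁻¹ * F.D.z * g)
  calc g⁻¹ * F.D.z * g * F.D.z = g⁻¹ * (F.D.z * (g * F.D.z * g⁻¹)) * g := by group
    _ = _ := by rw [← h.eq]; group

theorem M_y (hx : g * F.D.z * g⁻¹ ∈ F.D.J) : g⁻¹ * F.D.z * g ∈ F.M g :=
  ⟨by rw [show g * (g⁻¹ * F.D.z * g) * g⁻¹ = F.D.z by group]; exact F.D.zJ, F.pull_comm hx⟩

theorem M_comm_y {m : G} (hm : m ∈ F.M g) : Commute m (g⁻¹ * F.D.z * g) := by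
  have h := F.D.Jz _ hm.1
  show m * (g⁻¹ * F.D.z * g) = g⁻¹ * F.D.z * g * m
  calc m * (g⁻¹ * F.D.z * g) = g⁻¹ * (g * m * g⁻¹ * F.D.z) * g := by group
    _ = _ := by rw [h.eq]; group

theorem M_comm {a b : G} (ha : a ∈ F.M g) (hb : b ∈ F.M g) :
    a * b = b * a ∨ a * b = g⁻¹ * F.D.z * g * (b * a) := by
  have e : a * b = g⁻¹ * (g * a * g⁻¹ * (g * b * g⁻¹)) * g := by group
  rcases F.D.comm_or ha.1 hb.1 with h | h
  · left; rw [e, h.eq]; group
  · right; rw [e, h]; group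

theorem M_sq {a : G} (ha : a ∈ F.M g) : a * a = 1 ∨ a * a = g⁻¹ * F.D.z * g := by
  have e : a * a = g⁻¹ * (g * a * g⁻¹ * (g * a * g⁻¹)) * g := by group
  rcases F.D.sq2 _ ha.1 with h | h
  · left; rw [e, h]; group
  · right; rw [e, h]

theorem y_ne (hne : g * F.D.z * g⁻¹ ≠ F.D.z) : g⁻¹ * F.D.z * g ≠ F.D.z ∧ g⁻¹ * F.D.z * g ≠ 1 := by
  refine ⟨fun e => hne ?_, fun e => F.D.z1 ?_⟩
  · conv_lhs => rw [← e]
    group
  · calc F.D.z = g * (g⁻¹ * F.D.z * g) * g⁻¹ := by group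
      _ = 1 := by rw [e]; group

theorem M_centre (hx : g * F.D.z * g⁻¹ ∈ F.D.J) (e1 : F.co (g * F.D.z * g⁻¹) = 1) {m : G} (hm : m ∈ F.M g)
    (hc : ∀ a ∈ F.M g, Commute m a) :
    m = 1 ∨ m = g⁻¹ * F.D.z * g ∨ m = F.D.z ∨ m = g⁻¹ * F.D.z * g * F.D.z := by
  have hu := F.co_lt _ hm.1
  have t := List.all_eq_true.mp point_centre _ (List.mem_range.mpr hu)
  have back : ∀ j, g * m * g⁻¹ = j → m = g⁻¹ * j * g := fun j e => by rw [← e]; group
  rw [Bool.or_eq_true] at t
  rcases t with t | t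
  · have t' := Nat.le_of_ble_eq_true t
    rcases Nat.lt_or_eq_of_le t' with t' | t'
    · rcases (F.co_ker _ hm.1).mp (by omega) with e | e
      · left; rw [back _ e]; group
      · right; left; exact back _ e
    · rcases F.co_eq hm.1 hx (t'.trans e1.symm) with e | e
      · right; right; left; rw [back _ e]; group
      · right; right; right
        rw [back _ e, show g⁻¹ * (g * F.D.z * g⁻¹ * F.D.z) * g = F.D.z * (g⁻¹ * F.D.z * g) by group]
        exact (F.pull_comm hx).eq.symm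
  · exfalso
    obtain ⟨v, hv, t⟩ := List.any_eq_true.mp t
    rw [Bool.and_eq_true, Nat.beq_eq, Bool.not_eq_true', ← Bool.not_eq_true, Nat.beq_eq] at t
    obtain ⟨j, hj, rfl⟩ := F.co_surj v (List.mem_range.mp hv)
    have hjx : Commute (g * F.D.z * g⁻¹) j := (F.comm _ hx j hj).mpr (by rw [e1]; exact t.1)
    have hM : g⁻¹ * j * g ∈ F.M g := by
      refine ⟨by rw [show g * (g⁻¹ * j * g) * g⁻¹ = j by group]; exact hj, ?_⟩
      show g⁻¹ * j * g * F.D.z = F.D.z * (g⁻¹ * j * g)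
      calc g⁻¹ * j * g * F.D.z = g⁻¹ * (j * (g * F.D.z * g⁻¹)) * g := by group
        _ = _ := by rw [← hjx.eq]; group
    refine t.2 ((F.comm _ hm.1 j hj).mp ?_)
    show g * m * g⁻¹ * j = j * (g * m * g⁻¹)
    calc g * m * g⁻¹ * j = g * (m * (g⁻¹ * j * g)) * g⁻¹ := by group
      _ = _ := by rw [(hc _ hM).eq]; group

variable [Finite G]

theorem card_M (hx : g * F.D.z * g⁻¹ ∈ F.D.J) (e1 : F.co (g * F.D.z * g⁻¹) = 1) : Nat.card (F.M g) = 256 := by
  classical
  set x := g * F.D.z * g⁻¹ with hxdef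
  let K : Subgroup G := F.D.J ⊓ Subgroup.centralizer {x}
  have memK : ∀ {j}, j ∈ K ↔ j ∈ F.D.J ∧ Commute j x := fun {j} => by
    show j ∈ F.D.J ∧ j ∈ Subgroup.centralizer {x} ↔ _
    rw [Subgroup.mem_centralizer_singleton_iff]; rfl
  let e : ↥(F.M g) ≃ ↥K :=
    { toFun := fun m => ⟨g * m * g⁻¹, memK.mpr ⟨m.2.1, by
        show g * (m : G) * g⁻¹ * (g * F.D.z * g⁻¹) = g * F.D.z * g⁻¹ * (g * (m : G) * g⁻¹)
        calc g * (m : G) * g⁻¹ * (g * F.D.z * g⁻¹) = g * ((m : G) * F.D.z) * g⁻¹ := by group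
          _ = _ := by rw [m.2.2.eq]; group⟩⟩
      invFun := fun k => ⟨g⁻¹ * k * g, by rw [show g * (g⁻¹ * (k : G) * g) * g⁻¹ = k by group]; exact (memK.mp k.2).1, by
        show g⁻¹ * (k : G) * g * F.D.z = F.D.z * (g⁻¹ * (k : G) * g)
        calc g⁻¹ * (k : G) * g * F.D.z = g⁻¹ * ((k : G) * x) * g := by rw [hxdef]; group
          _ = _ := by rw [(memK.mp k.2).2.eq, hxdef]; group⟩
      left_inv := fun m => Subtype.ext (by group)
      right_inv := fun k => Subtype.ext (by group) }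
  rw [Nat.card_congr e, F.card_co inf_le_left (memK.mpr ⟨F.D.zJ, (F.D.Jz x hx).symm⟩)]
  have himg : F.co '' (K : Set G) = ↑(((List.range 256).filter fun v => Nat.beq (polar 1 v) 0).toFinset) := by
    ext v
    rw [Finset.mem_coe, List.mem_toFinset, List.mem_filter, List.mem_range, Nat.beq_eq]
    constructor
    · rintro ⟨j, hj, rfl⟩
      obtain ⟨hjJ, hc⟩ := memK.mp hj
      refine ⟨F.co_lt j hjJ, ?_⟩
      have := (F.comm _ hx j hjJ).mp hc.symm
      rwa [e1] at this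
    · rintro ⟨hv, h0⟩
      obtain ⟨j, hj, rfl⟩ := F.co_surj v hv
      exact ⟨j, memK.mpr ⟨hj, ((F.comm _ hx j hj).mpr (by rw [e1]; exact h0)).symm⟩, rfl⟩
  rw [himg, Set.ncard_coe_finset, List.toFinset_card_of_nodup (List.nodup_range.filter _), perp_count]

/-- The image of the pulled centraliser. -/
def toX (g : G) : ↥(F.M g) →* X := F.π.comp (Subgroup.inclusion fun m hm => F.mem_C.mpr hm.2)

theorem card_range (hx : g * F.D.z * g⁻¹ ∈ F.D.J) (e1 : F.co (g * F.D.z * g⁻¹) = 1) :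
    Nat.card (F.toX g).range * Nat.card ↥(F.D.J ⊓ F.M g) = 256 := by
  have hker : (F.toX g).ker = F.D.J.subgroupOf (F.M g) := by
    ext m
    rw [MonoidHom.mem_ker, Subgroup.mem_subgroupOf]
    exact F.hk _
  rw [← F.card_M hx e1, ← Subgroup.index_mul_card (F.toX g).ker, Subgroup.index_ker, hker,
    ← Subgroup.inf_subgroupOf_right, Nat.card_congr (Subgroup.subgroupOfEquivOfLe inf_le_right).toEquiv]

/-- Either the image lies in the subgroup of index two or half of it does. -/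
theorem half [Finite X] (g : G) : (F.toX g).range ≤ F.N ∨
    Nat.card ↥((F.toX g).range ⊓ F.N) * 2 = Nat.card (F.toX g).range := by
  haveI := F.normal
  have hd : F.N.relIndex (F.toX g).range ∣ 2 := F.hN ▸ Subgroup.relIndex_dvd_index_of_normal F.N _
  rcases (Nat.dvd_prime Nat.prime_two).mp hd with h | h
  · exact Or.inl (Subgroup.relIndex_eq_one.mp h)
  · refine Or.inr ?_
    rw [inf_comm, ← Nat.card_congr (Subgroup.subgroupOfEquivOfLe inf_le_right).toEquiv,
      Subgroup.inf_subgroupOf_right, ← h, mul_comm]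
    exact (F.N.subgroupOf (F.toX g).range).index_mul_card

/-- The members of the group of order sixty-four, as a monoid. -/
def P0m : Submonoid ↥F.N where
  carrier := {x | F.r x ∈ sylL.map st}
  one_mem' := by
    show F.r 1 ∈ sylL.map st
    rw [F.r_one]; decide +kernel
  mul_mem' := fun {a b} ha hb => by
    show F.r (a * b) ∈ sylL.map st
    rw [F.r_mul]
    exact List.mem_of_elem_eq_true (List.all_eq_true.mp (List.all_eq_true.mp syl_closed _ ha) _ hb)

/-- The members of the group of order sixty-four. -/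
def P0 [Finite X] : Subgroup ↥F.N :=
  { F.P0m with
    inv_mem' := fun {a} ha => by
      have e : a⁻¹ = a ^ (orderOf a - 1) := inv_eq_of_mul_eq_one_right (by
        rw [← pow_succ', Nat.sub_add_cancel (orderOf_pos a), pow_orderOf_eq_one])
      rw [e]
      exact F.P0m.pow_mem ha _ }

theorem card_P0 [Finite X] : Nat.card F.P0 = 64 := by
  classical
  let f : ↥F.P0 → ↥((sylL.map st).toFinset) := fun x => ⟨F.r x.1, List.mem_toFinset.mpr x.2⟩
  have hf : Function.Bijective f := by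
    refine ⟨fun a b e => Subtype.ext (F.r_inj (congrArg Subtype.val e)), fun v => ?_⟩
    obtain ⟨i, hi, e⟩ := List.mem_map.mp (List.mem_toFinset.mp v.2)
    obtain ⟨x, hx⟩ := F.r_surj (st i) (U6Rec.inU_st (syl_size.2.2.2.2.2 i hi))
    exact ⟨⟨x, List.mem_map.mpr ⟨i, hi, hx.symm⟩⟩, Subtype.ext (hx.trans e)⟩
  rw [Nat.card_eq_of_bijective f hf, Nat.card_eq_fintype_card, Fintype.card_coe,
    List.toFinset_card_of_nodup syl_size.1, List.length_map, syl_size.2.1]

end Frame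

end CfsgLib.U6Chz.Aut
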