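/-
A conjugate inside the extraspecial group has its partner there as well: otherwise a group of order
sixty-four would have a single non-trivial commutator.
-/
import Cfsg.Agent.Lib.U6Chz.Aut.Pulled

set_option autoImplicit false
set_option maxRecDepth 100000
set_option linter.unusedVariables false

namespace CfsgLib.U6Chz.Aut

open U6Rec (app comp InU qf polar one st)
open scoped Pointwise

namespace Frame

variable {G : Type*} [Group G] [Finite G] {X : Type*} [Group X] [Finite X] (F : Frame G X) {g : G}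

theorem partner_mem (hx : g * F.D.z * g⁻¹ ∈ F.D.J) (e1 : F.co (g * F.D.z * g⁻¹) = 1)
    (hne : g * F.D.z * g⁻¹ ≠ F.D.z) : g⁻¹ * F.D.z * g ∈ F.D.J := by
  classical
  set y := g⁻¹ * F.D.z * g with hy
  by_contra hyJ
  obtain ⟨yz, y1⟩ := F.y_ne hne
  -- the intersection is the centre only
  have hI : F.D.J ⊓ F.M g = Subgroup.zpowers F.D.z := by
    refine le_antisymm (fun m hm => ?_) ((Subgroup.zpowers_le).mpr ⟨F.D.zJ, F.M_z hx⟩)
    have hc : ∀ a ∈ F.M g, Commute m a := by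
      intro a ha
      rcases F.M_comm hm.2 ha with h | h
      · exact h
      · exfalso
        refine hyJ ?_
        have e : y = m * (a * m⁻¹ * a⁻¹) := by
          calc y = y * (a * m) * (a * m)⁻¹ := by group
            _ = m * a * (a * m)⁻¹ := by rw [← h]
            _ = _ := by group
        rw [e]
        exact mul_mem hm.1 (F.D.conjJ a ha.2 _ (inv_mem hm.1))
    rcases F.M_centre hx e1 hm.2 hc with e | e | e | e
    · rw [e]; exact one_mem _
    · exact absurd (show y ∈ F.D.J by rw [hy, ← e]; exact hm.1) hyJ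
    · rw [e]; exact Subgroup.mem_zpowers _
    · refine absurd ?_ hyJ
      have hmJ : m ∈ F.D.J := hm.1
      have := F.D.J.mul_mem hmJ (F.D.J.inv_mem F.D.zJ)
      rwa [e, mul_inv_cancel_right] at this
  have h128 : Nat.card (F.toX g).range = 128 := by
    have h := F.card_range hx e1
    rw [hI, Nat.card_zpowers, orderOf_eq_prime (p := 2) (by rw [pow_two]; exact F.D.zz) F.D.z1] at h
    omega
  have h64 : Nat.card ↥((F.toX g).range ⊓ F.N) = 64 := by
    rcases F.half g with h | h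
    · exfalso
      have := Subgroup.card_dvd_of_le h
      rw [h128, F.cardN] at this
      norm_num at this
    · omega
  haveI : Fact (Nat.Prime 2) := ⟨Nat.prime_two⟩
  set Q : Subgroup ↥F.N := ((F.toX g).range ⊓ F.N).subgroupOf F.N with hQ
  have cQ : Nat.card Q = 64 := by rw [hQ, Nat.card_congr (Subgroup.subgroupOfEquivOfLe inf_le_right).toEquiv, h64]
  have nd : ∀ S : Subgroup ↥F.N, Nat.card S = 64 → ¬ 2 ∣ S.index := by
    intro S hS
    have h := S.index_mul_card
    rw [hS, F.cardN] at h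
    omega
  let SP : Sylow 2 ↥F.N := (IsPGroup.of_card (n := 6) (by rw [F.card_P0]; norm_num) : IsPGroup 2 F.P0).toSylow (nd _ F.card_P0)
  let SQ : Sylow 2 ↥F.N := (IsPGroup.of_card (n := 6) (by rw [cQ]; norm_num) : IsPGroup 2 Q).toSylow (nd _ cQ)
  obtain ⟨c, hc⟩ := MulAction.exists_smul_eq ↥F.N SP SQ
  have into : ∀ a ∈ F.P0, ∃ m : ↥(F.M g), F.toX g m = ((c * a * c⁻¹ : ↥F.N) : X) := by
    intro a ha
    have h1 : c * a * c⁻¹ ∈ (SQ : Subgroup ↥F.N) := by
      rw [← hc, Sylow.coe_subgroup_smul]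
      exact Subgroup.smul_mem_pointwise_smul a (MulAut.conj c) (SP : Subgroup ↥F.N) ha
    exact (Subgroup.mem_subgroupOf.mp h1).1
  have comm2 : ∀ {p q : X}, (∃ m, F.toX g m = p) → (∃ m, F.toX g m = q) →
      p * q = q * p ∨ p * q = F.toX g ⟨y, F.M_y hx⟩ * (q * p) := by
    rintro p q ⟨a, rfl⟩ ⟨b, rfl⟩
    rcases F.M_comm a.2 b.2 with h | h
    · left; rw [← map_mul, ← map_mul]; exact congrArg _ (Subtype.ext h)
    · right; rw [← map_mul, ← map_mul, ← map_mul]; exact congrArg _ (Subtype.ext h)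
  obtain ⟨na, -, mi1, mi13, mi72, hlt⟩ := syl_size
  obtain ⟨a, ea⟩ := F.r_surj (st 1) (U6Rec.inU_st (hlt 1 mi1))
  obtain ⟨b, eb⟩ := F.r_surj (st 13) (U6Rec.inU_st (hlt 13 mi13))
  obtain ⟨d, ed⟩ := F.r_surj (st 72) (U6Rec.inU_st (hlt 72 mi72))
  have ma : a ∈ F.P0 := List.mem_map.mpr ⟨1, mi1, ea.symm⟩
  have mb : b ∈ F.P0 := List.mem_map.mpr ⟨13, mi13, eb.symm⟩
  have md : d ∈ F.P0 := List.mem_map.mpr ⟨72, mi72, ed.symm⟩
  obtain ⟨c1, c2, c3⟩ := syl_comm
  have val : ∀ b' ∈ F.P0, comp (st 1) (F.r b') ≠ comp (F.r b') (st 1) →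
      (((c * a * c⁻¹) * (c * b' * c⁻¹) * ((c * a * c⁻¹)⁻¹ * (c * b' * c⁻¹)⁻¹) : ↥F.N) : X) = F.toX g ⟨y, F.M_y hx⟩ := by
    intro b' hb' hnc
    rcases comm2 (into a ma) (into b' hb') with h | h
    · exfalso
      refine hnc ?_
      have h' : (c * a * c⁻¹) * (c * b' * c⁻¹) = (c * b' * c⁻¹) * (c * a * c⁻¹) := Subtype.ext h
      have h2 : a * b' = b' * a := by
        calc a * b' = c⁻¹ * ((c * a * c⁻¹) * (c * b' * c⁻¹)) * c := by group
          _ = _ := by rw [h']; group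
      rw [← ea, ← F.r_mul, ← F.r_mul, h2]
    · simp only [Subgroup.coe_mul, Subgroup.coe_inv] at h ⊢
      rw [h]; group
  have e := (val b mb (by rw [eb]; exact c1)).trans (val d md (by rw [ed]; exact c2)).symm
  have e' : a * b * (a⁻¹ * b⁻¹) = a * d * (a⁻¹ * d⁻¹) := by
    have := congrArg (fun w : ↥F.N => c⁻¹ * w * c) (Subtype.ext e : (_ : ↥F.N) = _)
    simpa [mul_assoc] using this
  apply c3
  rw [← F.r_inv (hlt 1 mi1) ea, ← F.r_inv (hlt 13 mi13) eb, ← F.r_inv (hlt 72 mi72) ed, ← ea, ← eb, ← ed, ← F.r_mul, ← F.r_mul,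
    ← F.r_mul, ← F.r_mul, ← F.r_mul, ← F.r_mul, e']

end Frame

end CfsgLib.U6Chz.Aut
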