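/-
Elements of the extraspecial group centralising a conjugate inside it are pulled back into the subgroup of
index two.
-/
import Cfsg.Agent.Lib.U6Chz.Aut.Partner

set_option autoImplicit false
set_option maxRecDepth 100000
set_option linter.unusedVariables false

namespace CfsgLib.U6Chz.Aut

open U6Rec (app comp InU qf polar one st)

theorem polar_one_hit : polar 1 32 = 1 := by decide +kernel

namespace Frame

variable {G : Type*} [Group G] [Finite G] {X : Type*} [Group X] [Finite X] (F : Frame G X) {g : G}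

/-- The stabiliser elements lift to elements commuting with both involutions. -/
theorem stab_lift {y : G} (hy : y ∈ F.D.J) (e1 : F.co y = 1) {j : ℕ} (hj : j < 192) :
    ∃ h : G, Commute h F.D.z ∧ Commute h y ∧ ∃ hh : h ∈ Subgroup.centralizer ({F.D.z} : Set G),
      ∃ hN : F.π ⟨h, hh⟩ ∈ F.N, F.r ⟨F.π ⟨h, hh⟩, hN⟩ = st j := by
  obtain ⟨x, hx⟩ := F.r_surj (st j) (U6Rec.inU_st hj)
  obtain ⟨h, hh⟩ := F.hπ x.1
  have hm : F.π h ∈ F.N := by rw [hh]; exact x.2
  have er : F.r ⟨F.π h, hm⟩ = st j := by rw [show (⟨F.π h, hm⟩ : ↥F.N) = x from Subtype.ext hh, hx]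
  have hz : Commute (h : G) F.D.z := F.mem_C.mp h.2
  have hyJ := F.D.conjJ _ hz y hy
  have e2 : F.co ((h : G) * y * (h : G)⁻¹) = F.co y := by rw [F.r_conj h hm y hy, er, e1, U6Rec.st_one hj]
  rcases F.co_eq hyJ hy e2 with e | e
  · exact ⟨h, hz, mul_inv_eq_iff_eq_mul.mp e, h.2, hm, er⟩
  · obtain ⟨i, hi, ei⟩ := F.co_surj 32 (by norm_num)
    have hiy : i * y = F.D.z * (y * i) := (F.D.comm_or hi hy).resolve_left fun hc => by
      have := (F.comm y hy i hi).mp hc.symm
      rw [e1, ei, polar_one_hit] at this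
      exact one_ne_zero this
    have hiC : i ∈ Subgroup.centralizer ({F.D.z} : Set G) := F.mem_C.mpr (F.D.Jz i hi)
    have hp : F.π (⟨i, hiC⟩ * h) = F.π h := by rw [map_mul, (F.hk ⟨i, hiC⟩).mpr hi, one_mul]
    refine ⟨i * h, (F.D.Jz i hi).mul_left hz, ?_, mul_mem hiC h.2, ?_, ?_⟩
    · show i * (h : G) * y = y * (i * (h : G))
      have hyz : y * F.D.z = F.D.z * y := (F.D.Jz y hy).eq
      calc i * (h : G) * y = i * ((h : G) * y * (h : G)⁻¹) * h := by group
        _ = (i * y) * F.D.z * h := by rw [e]; group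
        _ = F.D.z * y * (i * F.D.z) * h := by rw [hiy]; group
        _ = F.D.z * (y * F.D.z) * (i * h) := by rw [(F.D.Jz i hi).eq]; group
        _ = (F.D.z * F.D.z) * y * (i * h) := by rw [hyz]; group
        _ = _ := by rw [F.D.zz, one_mul]
    · show F.π (⟨i, hiC⟩ * h) ∈ F.N
      rw [hp]; exact hm
    · rw [← er]; exact congrArg F.r (Subtype.ext hp)

/-- The stabiliser elements normalise the pulled centraliser. -/
theorem M_conj (hx : g * F.D.z * g⁻¹ ∈ F.D.J) {h m : G} (hz : Commute h F.D.z) (hy : Commute h (g⁻¹ * F.D.z * g))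
    (hm : m ∈ F.M g) : h * m * h⁻¹ ∈ F.M g := by
  refine ⟨?_, (hz.mul_left hm.2).mul_left hz.inv_left⟩
  have hk : Commute (g * h * g⁻¹) F.D.z := by
    show g * h * g⁻¹ * F.D.z = F.D.z * (g * h * g⁻¹)
    calc g * h * g⁻¹ * F.D.z = g * (h * (g⁻¹ * F.D.z * g)) * g⁻¹ := by group
      _ = _ := by rw [hy.eq]; group
  rw [show g * (h * m * h⁻¹) * g⁻¹ = g * h * g⁻¹ * (g * m * g⁻¹) * (g * h * g⁻¹)⁻¹ by group]
  exact F.D.conjJ _ hk _ hm.1

/-- The coordinates of the intersection with the extraspecial group. -/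
theorem card_W (hx : g * F.D.z * g⁻¹ ∈ F.D.J) (hne : g * F.D.z * g⁻¹ ≠ F.D.z) (hy : g⁻¹ * F.D.z * g ∈ F.D.J)
    (f1 : F.co (g⁻¹ * F.D.z * g) = 1) :
    (F.co '' ((F.D.J ⊓ F.M g : Subgroup G) : Set G)).ncard ∈ [2, 4, 16] := by
  classical
  set y := g⁻¹ * F.D.z * g with hydef
  set W := F.co '' ((F.D.J ⊓ F.M g : Subgroup G) : Set G) with hW
  have one' : 1 ∈ W := ⟨y, ⟨hy, F.M_y hx⟩, f1⟩
  have zero : 0 ∈ W := ⟨1, one_mem _, F.co_one⟩
  have add : ∀ u ∈ W, ∀ v ∈ W, u ^^^ v ∈ W := by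
    rintro _ ⟨a, ha, rfl⟩ _ ⟨b, hb, rfl⟩
    exact ⟨a * b, mul_mem ha hb, F.co_mul a ha.1 b hb.1⟩
  have iso : ∀ u ∈ W, ∀ v ∈ W, polar u v = 0 := by
    rintro _ ⟨a, ha, rfl⟩ _ ⟨b, hb, rfl⟩
    refine (F.comm a ha.1 b hb.1).mp ?_
    rcases F.M_comm ha.2 hb.2 with h | h
    · exact h
    · refine (F.D.comm_or ha.1 hb.1).resolve_right fun h' => (F.y_ne hne).1 ?_
      exact mul_right_cancel (h.symm.trans h')
  have inv : ∀ j < 192, ∀ v ∈ W, app (st j) v ∈ W := by
    intro j hj v hv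
    obtain ⟨a, ha, rfl⟩ := hv
    obtain ⟨h, hz, hcy, hh, hN, er⟩ := F.stab_lift hy f1 hj
    refine ⟨h * a * h⁻¹, ⟨F.D.conjJ h hz a ha.1, F.M_conj hx hz hcy ha.2⟩, ?_⟩
    rw [← er]
    exact F.r_conj ⟨h, hh⟩ hN a ha.1
  have lt : ∀ v ∈ W, v < 256 := by rintro _ ⟨a, ha, rfl⟩; exact F.co_lt a ha.1
  by_cases hbig : ∃ v ∈ W, 3 < v
  · obtain ⟨v, hv, h3⟩ := hbig
    have t := List.all_eq_true.mp plane_class v (List.mem_range.mpr (lt v hv))
    simp only [Bool.or_eq_true, Bool.not_eq_true', ← Bool.not_eq_true, Nat.beq_eq] at t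
    rcases t with ((t | t) | t) | t
    · have := Nat.le_of_ble_eq_true t; omega
    · exact absurd (iso 1 one' v hv) t
    · obtain ⟨l, hl, hvl⟩ := List.any_eq_true.mp t
      have hvl' := List.mem_of_elem_eq_true hvl
      have hg := List.all_eq_true.mp (List.all_eq_true.mp plane_gen l hl) v hvl'
      rw [Bool.or_eq_true] at hg
      have hT : ∀ a ∈ 0 :: 1 :: fewL.map (fun j => app (st j) v), a ∈ W := by
        intro a ha
        rcases List.mem_cons.mp ha with rfl | ha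
        · exact zero
        rcases List.mem_cons.mp ha with rfl | ha
        · exact one'
        obtain ⟨j, hj, rfl⟩ := List.mem_map.mp ha
        exact inv j ((show ∀ j ∈ fewL, j < 192 by decide) j hj) v hv
      have hlW : ∀ w ∈ l, w ∈ W := by
        intro w hw
        have h := List.all_eq_true.mp (hg.resolve_left fun t => by have := Nat.le_of_ble_eq_true t; omega) w hw
        simp only [Bool.or_eq_true] at h
        rcases h with h | h
        · exact hT w (List.mem_of_elem_eq_true h)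
        · obtain ⟨a, ha, h'⟩ := List.any_eq_true.mp h
          have := add _ (hT _ (List.mem_of_elem_eq_true h')) a (hT a ha)
          rwa [Nat.xor_assoc, Nat.xor_self, Nat.xor_zero] at this
      have hWl : ∀ w ∈ W, w ∈ l := by
        intro u hu
        have h := List.all_eq_true.mp (List.all_eq_true.mp plane_max l hl) u (List.mem_range.mpr (lt u hu))
        rw [Bool.or_eq_true] at h
        rcases h with h | h
        · exact List.mem_of_elem_eq_true h
        · obtain ⟨w, hw, h'⟩ := List.any_eq_true.mp h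
          rw [Bool.not_eq_true', ← Bool.not_eq_true, Nat.beq_eq] at h'
          exact absurd (iso w (hlW w hw) u hu) h'
      obtain ⟨nd, len, -⟩ := plane_size l hl
      have e : W = ↑l.toFinset := Set.ext fun w => ⟨fun h => by simpa using hWl w h, fun h => hlW w (by simpa using h)⟩
      rw [e, Set.ncard_coe_finset, List.toFinset_card_of_nodup nd, len]; simp
    · obtain ⟨j, hj, t⟩ := List.any_eq_true.mp t
      rw [Bool.not_eq_true', ← Bool.not_eq_true, Nat.beq_eq] at t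
      exact absurd (iso v hv _ (inv j (List.mem_range.mp hj) v hv)) t
  · push Not at hbig
    by_cases h2 : 2 ∈ W
    · have e : W = ↑({0, 1, 2, 3} : Finset ℕ) := by
        ext v
        simp only [Finset.coe_insert, Finset.coe_singleton, Set.mem_insert_iff, Set.mem_singleton_iff]
        refine ⟨fun h => by have := hbig v h; omega, ?_⟩
        rintro (rfl | rfl | rfl | rfl)
        exacts [zero, one', h2, add 1 one' 2 h2]
      rw [e, Set.ncard_coe_finset]; simp
    · have e : W = ↑({0, 1} : Finset ℕ) := by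
        ext v
        simp only [Finset.coe_insert, Finset.coe_singleton, Set.mem_insert_iff, Set.mem_singleton_iff]
        refine ⟨fun h => ?_, ?_⟩
        · have := hbig v h
          have : v ≠ 2 := fun e => h2 (e ▸ h)
          have : v ≠ 3 := fun e => h2 (by have := add 1 one' v h; rwa [e] at this)
          omega
        · rintro (rfl | rfl)
          exacts [zero, one']
      rw [e, Set.ncard_coe_finset]; simp

/-- Small normal elementary groups in the stabiliser. -/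
theorem card_S {S : Finset ℕ} (hsub : ∀ a ∈ S, ∃ i < 192, a = st i) (h1 : one ∈ S)
    (mul : ∀ a ∈ S, ∀ b ∈ S, comp a b ∈ S ∧ comp a b = comp b a) (sq : ∀ a ∈ S, comp a a = one)
    (conj : ∀ j < 192, ∀ a ∈ S, cS j a ∈ S) : S.card ≤ 2 ∨ S.card = 8 := by
  have cls : ∀ a ∈ S, a = one ∨ a = st 66 ∨ ∃ k < 3, ∃ i ∈ blockL.getD k [], a = st i ∧ i ≠ 0 ∧ i ≠ 66 := by
    intro a ha
    obtain ⟨i, hi, rfl⟩ := hsub a ha
    by_cases i0 : i = 0
    · exact Or.inl (by rw [i0, st_zero.1])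
    by_cases i6 : i = 66
    · exact Or.inr (Or.inl (by rw [i6]))
    have t := List.all_eq_true.mp normal_class i (List.mem_range.mpr hi)
    simp only [Bool.or_eq_true, Bool.not_eq_true', ← Bool.not_eq_true, Nat.beq_eq] at t
    rcases t with (((t | t) | t) | t) | t
    · exact absurd (sq _ ha) t
    · exact absurd t i0
    · exact absurd t i6
    · obtain ⟨l, hl, hil⟩ := List.any_eq_true.mp t
      obtain ⟨k, hk, rfl⟩ := List.getElem_of_mem hl
      refine Or.inr (Or.inr ⟨k, hk, i, ?_, rfl, i0, i6⟩)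
      rw [List.getD_eq_getElem?_getD, List.getElem?_eq_getElem hk]
      exact List.mem_of_elem_eq_true hil
    · obtain ⟨j, hj, t⟩ := List.any_eq_true.mp t
      rw [Bool.not_eq_true', ← Bool.not_eq_true, Nat.beq_eq] at t
      exact absurd (mul _ ha _ (conj j (List.mem_range.mp hj) _ ha)).2 t
  have mem : ∀ k < 3, blockL.getD k [] ∈ blockL := by decide
  have full : ∀ k < 3, ∀ i ∈ blockL.getD k [], i ≠ 0 → i ≠ 66 → st i ∈ S → ∀ m ∈ blockL.getD k [], st m ∈ S := by
    intro k hk i hi i0 i6 hS m hm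
    have h := List.all_eq_true.mp (List.all_eq_true.mp block_gen _ (mem k hk)) i hi
    simp only [Bool.or_eq_true, Nat.beq_eq, i0, i6, false_or] at h
    have h' := List.all_eq_true.mp h m hm
    simp only [Bool.or_eq_true] at h'
    have hT : ∀ a ∈ one :: fewL.map (fun j => cS j (st i)), a ∈ S := by
      intro a ha
      rcases List.mem_cons.mp ha with rfl | ha
      · exact h1
      obtain ⟨j, hj, rfl⟩ := List.mem_map.mp ha
      exact conj j ((show ∀ j ∈ fewL, j < 192 by decide) j hj) _ hS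
    rcases h' with h' | h'
    · exact hT _ (List.mem_of_elem_eq_true h')
    · obtain ⟨a, ha, h''⟩ := List.any_eq_true.mp h'
      have h3 := (mul a (hT a ha) _ (hT _ (List.mem_of_elem_eq_true h''))).1
      rw [← U6Rec.comp_assoc, sq a (hT a ha), show U6Rec.st m = comp (U6Rec.st m) one from (U6Rec.st_form m).symm,
        U6Rec.one_comp] at h3
      rwa [show U6Rec.st m = comp (U6Rec.st m) one from (U6Rec.st_form m).symm]
  by_cases hb : ∃ a ∈ S, a ≠ one ∧ a ≠ st 66
  · right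
    obtain ⟨a, ha, n1, n2⟩ := hb
    obtain ⟨k, hk, i, hi, rfl, i0, i6⟩ := ((cls a ha).resolve_left n1).resolve_left n2
    obtain ⟨nd, len, m0, m6, -⟩ := block_size _ (mem k hk)
    have e : S = ((blockL.getD k []).map st).toFinset := by
      ext b
      rw [List.mem_toFinset, List.mem_map]
      refine ⟨fun hb => ?_, fun ⟨m, hm, e⟩ => e ▸ full k hk i hi i0 i6 ha m hm⟩
      rcases cls b hb with rfl | rfl | ⟨l, hl, m, hm, rfl, m0', m6'⟩
      · exact ⟨0, m0, st_zero.1⟩
      · exact ⟨66, m6, rfl⟩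
      by_cases hkl : k = l
      · subst hkl; exact ⟨m, hm, rfl⟩
      exfalso
      have h := List.all_eq_true.mp (List.all_eq_true.mp block_cross k (List.mem_range.mpr hk)) l (List.mem_range.mpr hl)
      simp only [Bool.or_eq_true, Nat.beq_eq, hkl, false_or] at h
      obtain ⟨p, hp, h'⟩ := List.any_eq_true.mp h
      obtain ⟨q, hq, h''⟩ := List.any_eq_true.mp h'
      rw [Bool.not_eq_true', ← Bool.not_eq_true, Nat.beq_eq] at h''
      exact h'' (mul _ (full k hk i hi i0 i6 ha p hp) _ (full l hl m hm m0' m6' hb q hq)).2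
    rw [e, List.toFinset_card_of_nodup nd, List.length_map, len]
  · left
    push Not at hb
    calc S.card ≤ ({one, st 66} : Finset ℕ).card := Finset.card_le_card fun a ha => by
          by_cases h : a = one
          · simp [h]
          · simp [hb a ha h]
      _ ≤ 2 := Finset.card_le_two

/-- With the partner at the first vector the image lies in the subgroup of index two. -/
theorem range_le (hx : g * F.D.z * g⁻¹ ∈ F.D.J) (e1 : F.co (g * F.D.z * g⁻¹) = 1) (hne : g * F.D.z * g⁻¹ ≠ F.D.z)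
    (hy : g⁻¹ * F.D.z * g ∈ F.D.J) (f1 : F.co (g⁻¹ * F.D.z * g) = 1) : (F.toX g).range ≤ F.N := by
  classical
  refine (F.half g).resolve_right fun hh => ?_
  set y := g⁻¹ * F.D.z * g with hydef
  set U0 := (F.toX g).range ⊓ F.N with hU0
  haveI : Fintype ↥U0 := Fintype.ofFinite _
  let rr : ↥U0 → ℕ := fun u => F.r ⟨u.1, u.2.2⟩
  let S : Finset ℕ := Finset.univ.image rr
  have memS : ∀ {a}, a ∈ S ↔ ∃ u, rr u = a := by intro a; simp [S]
  have cardS : S.card = Nat.card ↥U0 := by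
    have hinj : Function.Injective rr := fun u v e => Subtype.ext (congrArg (fun w : ↥F.N => (w : X)) (F.r_inj e))
    rw [show S.card = Finset.univ.card from Finset.card_image_of_injective _ hinj, Finset.card_univ,
      Nat.card_eq_fintype_card]
  have piy : F.toX g ⟨y, F.M_y hx⟩ = 1 := (F.hk _).mpr hy
  have rcomm : ∀ u v : ↥U0, (u : X) * v = v * u := by
    rintro ⟨u, ⟨a, rfl⟩, -⟩ ⟨v, ⟨b, rfl⟩, -⟩
    show F.toX g a * F.toX g b = F.toX g b * F.toX g a
    rcases F.M_comm a.2 b.2 with h | h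
    · rw [← map_mul, ← map_mul]; exact congrArg _ (Subtype.ext h)
    · rw [← map_mul, ← map_mul, show a * b = ⟨y, F.M_y hx⟩ * (b * a) from Subtype.ext h, map_mul, piy, one_mul]
  have rsq : ∀ u : ↥U0, (u : X) * u = 1 := by
    rintro ⟨u, ⟨a, rfl⟩, -⟩
    show F.toX g a * F.toX g a = 1
    rw [← map_mul]
    rcases F.M_sq a.2 with h | h
    · rw [show a * a = 1 from Subtype.ext h, map_one]
    · rw [show a * a = ⟨y, F.M_y hx⟩ from Subtype.ext h, piy]
  have hS := card_S (S := S) ?_ ?_ ?_ ?_ ?_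
  · have hR := F.card_range hx e1
    rw [F.card_co inf_le_left ⟨F.D.zJ, F.M_z hx⟩] at hR
    have hW := F.card_W hx hne hy f1
    rw [cardS] at hS
    simp only [List.mem_cons, List.not_mem_nil, or_false] at hW
    rcases hW with hW | hW | hW <;> rw [hW] at hR <;> rcases hS with hS | hS <;> omega
  · intro a ha
    obtain ⟨⟨u, ⟨m, rfl⟩, hu⟩, rfl⟩ := memS.mp ha
    obtain ⟨i, hi, e⟩ := U6Rec.stab_first (F.r_mem ⟨_, hu⟩) (by
      have h := F.r_conj ⟨m, F.mem_C.mpr m.2.2⟩ hu y hy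
      rw [f1] at h
      have hc : (m : G) * y * (m : G)⁻¹ = y := mul_inv_eq_iff_eq_mul.mpr (F.M_comm_y m.2).eq
      have h' := (congrArg F.co hc).symm.trans h
      rw [f1] at h'
      exact h'.symm)
    exact ⟨i, hi, e⟩
  · exact memS.mpr ⟨1, (congrArg F.r (Subtype.ext rfl)).trans F.r_one⟩
  · intro a ha b hb
    obtain ⟨u, rfl⟩ := memS.mp ha
    obtain ⟨v, rfl⟩ := memS.mp hb
    refine ⟨memS.mpr ⟨u * v, (congrArg F.r (Subtype.ext rfl)).trans (F.r_mul ⟨_, u.2.2⟩ ⟨_, v.2.2⟩)⟩, ?_⟩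
    rw [← F.r_mul, ← F.r_mul]
    exact congrArg F.r (Subtype.ext (rcomm u v))
  · intro a ha
    obtain ⟨u, rfl⟩ := memS.mp ha
    rw [← F.r_mul, ← F.r_one]
    exact congrArg F.r (Subtype.ext (rsq u))
  · intro j hj a ha
    obtain ⟨⟨u, ⟨m, rfl⟩, hu⟩, rfl⟩ := memS.mp ha
    obtain ⟨h, hz, hcy, hhC, hN, er⟩ := F.stab_lift hy f1 hj
    have hm' : F.toX g ⟨h * m * h⁻¹, F.M_conj hx hz hcy m.2⟩ = F.π ⟨h, hhC⟩ * F.toX g m * (F.π ⟨h, hhC⟩)⁻¹ := by
      show F.π _ = F.π _ * F.π _ * _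
      rw [← map_inv, ← map_mul, ← map_mul]; rfl
    have hmem : F.π ⟨h, hhC⟩ * F.toX g m * (F.π ⟨h, hhC⟩)⁻¹ ∈ U0 :=
      ⟨⟨_, hm'⟩, F.N.mul_mem (F.N.mul_mem hN hu) (F.N.inv_mem hN)⟩
    refine memS.mpr ⟨⟨_, hmem⟩, ?_⟩
    show F.r _ = cS j (F.r _)
    rw [cS, ← F.r_inv hj er, ← er, ← F.r_mul, ← F.r_mul]
    exact congrArg F.r (Subtype.ext rfl)

/-- Elements of the extraspecial group centralising a conjugate in it pull back into the subgroup of index two. -/
theorem inner {g e : G} (hx : g * F.D.z * g⁻¹ ∈ F.D.J) (hne : g * F.D.z * g⁻¹ ≠ F.D.z) (he : e ∈ F.D.J)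
    (hc : Commute e (g * F.D.z * g⁻¹)) : F.In (g⁻¹ * e * g) := by
  have hx2 : g * F.D.z * g⁻¹ * (g * F.D.z * g⁻¹) = 1 := by
    rw [show g * F.D.z * g⁻¹ * (g * F.D.z * g⁻¹) = g * (F.D.z * F.D.z) * g⁻¹ by group, F.D.zz]; group
  have hx1 : g * F.D.z * g⁻¹ ≠ 1 := fun h => F.D.z1 (by
    calc F.D.z = g⁻¹ * (g * F.D.z * g⁻¹) * g := by group
      _ = 1 := by rw [h]; group)
  obtain ⟨h, hh, e1⟩ := F.to_one hx hx2 hx1 hne
  -- move the conjugate to the first vector
  set a := h⁻¹ * g with ha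
  have hax' : a * F.D.z * a⁻¹ = h⁻¹ * (g * F.D.z * g⁻¹) * h := by rw [ha]; group
  have hax : a * F.D.z * a⁻¹ ∈ F.D.J := by
    rw [hax']; simpa using F.D.conjJ _ hh.inv_left _ hx
  have hane : a * F.D.z * a⁻¹ ≠ F.D.z := fun e' => hne (by
    calc g * F.D.z * g⁻¹ = h * (a * F.D.z * a⁻¹) * h⁻¹ := by rw [ha]; group
      _ = F.D.z := by rw [e', hh.eq, mul_inv_cancel_right])
  rw [← hax'] at e1
  have hyJ := F.partner_mem hax e1 hane
  obtain ⟨yz, y1⟩ := F.y_ne hane
  obtain ⟨k, hk, f1⟩ := F.to_one hyJ (by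
    rw [show a⁻¹ * F.D.z * a * (a⁻¹ * F.D.z * a) = a⁻¹ * (F.D.z * F.D.z) * a by group, F.D.zz]; group) y1 yz
  -- move the partner to the first vector
  set b := a * k with hb
  have hbx : b * F.D.z * b⁻¹ = a * F.D.z * a⁻¹ := by
    rw [show b * F.D.z * b⁻¹ = a * (k * F.D.z * k⁻¹) * a⁻¹ by rw [hb]; group, hk.eq, mul_inv_cancel_right]
  have hby : b⁻¹ * F.D.z * b = k⁻¹ * (a⁻¹ * F.D.z * a) * k := by rw [hb]; group
  have hR := F.range_le (g := b) (by rw [hbx]; exact hax) (by rw [hbx]; exact e1) (by rw [hbx]; exact hane)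
    (by rw [hby]; simpa using F.D.conjJ _ hk.inv_left _ hyJ) (by rw [hby]; exact f1)
  set e' := h⁻¹ * e * h with he'
  have heJ : e' ∈ F.D.J := by simpa using F.D.conjJ _ hh.inv_left _ he
  have hec : Commute e' (b * F.D.z * b⁻¹) := by
    rw [hbx, hax', he']
    show h⁻¹ * e * h * (h⁻¹ * (g * F.D.z * g⁻¹) * h) = h⁻¹ * (g * F.D.z * g⁻¹) * h * (h⁻¹ * e * h)
    calc h⁻¹ * e * h * (h⁻¹ * (g * F.D.z * g⁻¹) * h) = h⁻¹ * (e * (g * F.D.z * g⁻¹)) * h := by group
      _ = _ := by rw [hc.eq]; group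
  have hM : b⁻¹ * e' * b ∈ F.M b := by
    refine ⟨by rw [show b * (b⁻¹ * e' * b) * b⁻¹ = e' by group]; exact heJ, ?_⟩
    show b⁻¹ * e' * b * F.D.z = F.D.z * (b⁻¹ * e' * b)
    calc b⁻¹ * e' * b * F.D.z = b⁻¹ * (e' * (b * F.D.z * b⁻¹)) * b := by group
      _ = _ := by rw [hec.eq]; group
  have hIn : F.In (b⁻¹ * e' * b) := ⟨F.mem_C.mpr hM.2, hR ⟨⟨_, hM⟩, rfl⟩⟩
  have := F.In_conj hIn hk
  rwa [show k * (b⁻¹ * e' * b) * k⁻¹ = g⁻¹ * e * g by rw [hb, he', ha]; group] at this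

end Frame

end CfsgLib.U6Chz.Aut
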