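/-
A normal subgroup of index two of the centraliser of an involution with large extraspecial core extends to the
whole group, if it contains what centralisers in the core of conjugates lying there pull back to.
-/
import Cfsg.Agent.Lib.Basic
import Cfsg.Agent.Lib.ExtraspecialTwo
import Cfsg.Agent.Lib.ExtraTransferTwo

set_option autoImplicit false
set_option linter.unusedVariables false
open scoped commutatorElement

namespace CfsgLib.U6Chz.Aut

/-- The kernel of the transfer. -/
theorem exists_index_two {G : Type*} [Group G] [Finite G] {z : G} (hz : orderOf z = 2) {E : Subgroup G}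
    (hEC : E ≤ (Subgroup.centralizer ({z} : Set G))) (hzE : z ∈ E)
    (hnorm : ∀ g ∈ (Subgroup.centralizer ({z} : Set G)), ∀ e ∈ E, g * e * g⁻¹ ∈ E)
    (hext : Cfsg.IsExtraspecial 2 ↥E) (hcent : Subgroup.centralizer (E : Set G) ≤ E) {k : ℕ}
    (hcard : Nat.card ↥E = 2 ^ k) (hk : 7 ≤ k) (K' : Subgroup ↥(Subgroup.centralizer ({z} : Set G))) (hK' : K'.index = 2)
    (hgood : ∀ x : G, x * z * x⁻¹ ∈ E → x * z * x⁻¹ ≠ z → ∀ e ∈ E, e * (x * z * x⁻¹) = x * z * x⁻¹ * e →
      ∀ hm : x⁻¹ * e * x ∈ (Subgroup.centralizer ({z} : Set G)),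
        (⟨x⁻¹ * e * x, hm⟩ : ↥(Subgroup.centralizer ({z} : Set G))) ∈ K') :
    ∃ G0 : Subgroup G, G0.index = 2 ∧ ∀ (h : G) (hh : h ∈ (Subgroup.centralizer ({z} : Set G))),
      h ∈ G0 ↔ (⟨h, hh⟩ : ↥(Subgroup.centralizer ({z} : Set G))) ∈ K' := by
  classical
  obtain ⟨z', hx⟩ := CfsgLib.ExtraTwo.ofExtraspecial hext
  have hzz : ((z' : E) : G) = z := by
    have hmem : (⟨z, hzE⟩ : E) ∈ Subgroup.center E := Subgroup.mem_center_iff.mpr fun g =>
      Subtype.ext (Subgroup.mem_centralizer_singleton_iff.mp (hEC g.2))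
    rcases (hx.center_iff _).mp hmem with h | h
    · exfalso
      have : z = 1 := congrArg Subtype.val h
      rw [this, orderOf_one] at hz
      norm_num at hz
    · exact (congrArg Subtype.val h).symm
  have hcard7 : 2 ^ 7 ≤ Nat.card E := hcard ▸ Nat.pow_le_pow_right (by norm_num) hk
  have hbase : ∀ g : G, (∀ e ∈ E, g⁻¹ * e * g ∈ (Subgroup.centralizer ({z} : Set G))) → g ∈ (Subgroup.centralizer ({z} : Set G)) := by
    intro g hg
    have h1 : g * z * g⁻¹ ∈ Subgroup.centralizer (E : Set G) := by
      refine Subgroup.mem_centralizer_iff.mpr fun e he => ?_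
      have h := Subgroup.mem_centralizer_singleton_iff.mp (hg e he)
      calc e * (g * z * g⁻¹) = g * ((g⁻¹ * e * g) * z) * g⁻¹ := by group
        _ = g * (z * (g⁻¹ * e * g)) * g⁻¹ := by rw [h]
        _ = g * z * g⁻¹ * e := by group
    have h2 : g * z * g⁻¹ ∈ E := hcent h1
    have h3 : (⟨_, h2⟩ : E) ∈ Subgroup.center E := Subgroup.mem_center_iff.mpr fun b =>
      Subtype.ext (Subgroup.mem_centralizer_iff.mp h1 b b.2)
    rcases (hx.center_iff _).mp h3 with h | h
    · exfalso
      have : z = 1 := by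
        have h' : g * z * g⁻¹ = 1 := congrArg Subtype.val h
        simpa using h'
      rw [this, orderOf_one] at hz
      norm_num at hz
    · have h' : g * z * g⁻¹ = z := (congrArg Subtype.val h).trans hzz
      exact Subgroup.mem_centralizer_singleton_iff.mpr (mul_inv_eq_iff_eq_mul.mp h')
  let χ : (Subgroup.centralizer ({z} : Set G)) →* Multiplicative (ZMod 2) := MonoidHom.mk'
    (fun c => if c ∈ K' then 1 else Multiplicative.ofAdd 1) fun a b => by
      have := Subgroup.mul_mem_iff_of_index_two hK' (a := a) (b := b)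
      by_cases ha : a ∈ K' <;> by_cases hb : b ∈ K'
      · rw [if_pos ha, if_pos hb, if_pos (this.mpr (iff_of_true ha hb))]; rfl
      · rw [if_pos ha, if_neg hb, if_neg fun h => hb ((this.mp h).mp ha)]; rfl
      · rw [if_neg ha, if_pos hb, if_neg fun h => ha ((this.mp h).mpr hb)]; rfl
      · rw [if_neg ha, if_neg hb, if_pos (this.mpr (iff_of_false ha hb))]; rfl
  have hA : ∀ a : Multiplicative (ZMod 2), a * a = 1 := by decide
  haveI := Fact.mk Nat.prime_two
  haveI : Fintype (G ⧸ (Subgroup.centralizer ({z} : Set G))) := Fintype.ofFinite _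
  -- an outer involution of the centralizer centralises a subgroup of index at least four of `E`
  have hindex : ∀ w : G, w ∈ (Subgroup.centralizer ({z} : Set G)) → w * w = 1 → w ∉ E →
      ((Subgroup.centralizer ({w} : Set G)).subgroupOf E).index ≠ 1 ∧
      ((Subgroup.centralizer ({w} : Set G)).subgroupOf E).index ≠ 2 := by
    intro w hwC hww hwE
    have hwi : w⁻¹ = w := inv_eq_of_mul_eq_one_right hww
    set Mw : Subgroup E := (Subgroup.centralizer ({w} : Set G)).subgroupOf E with hMw
    have hmemM : ∀ k : E, k ∈ Mw ↔ (k : G) * w = w * k := fun k => by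
      rw [hMw, Subgroup.mem_subgroupOf, Subgroup.mem_centralizer_singleton_iff]
    have hcentral : (∀ k : E, k ∈ Mw) → False := fun h => hwE (hcent (Subgroup.mem_centralizer_iff.mpr fun b hb =>
      (hmemM ⟨b, hb⟩).mp (h _)))
    refine ⟨fun h1 => hcentral fun k => (Subgroup.index_eq_one.mp h1).symm ▸ Subgroup.mem_top k, fun h2 => ?_⟩
    let σ : E →* E := MonoidHom.mk' (fun k => (⟨w * k * w⁻¹, hnorm w hwC k k.2⟩ : E)) fun k l => Subtype.ext (by
      change w * ((k : G) * l) * w⁻¹ = w * k * w⁻¹ * (w * l * w⁻¹); group)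
    have hσM : ∀ k : E, σ k = k ↔ k ∈ Mw := fun k => by
      rw [hmemM, ← Subtype.coe_inj]
      change w * (k : G) * w⁻¹ = k ↔ _
      rw [mul_inv_eq_iff_eq_mul, eq_comm]
    have hσσ : ∀ k, σ (σ k) = k := fun k => Subtype.ext (by
      change w * (w * (k : G) * w⁻¹) * w⁻¹ = k
      rw [hwi, ← mul_assoc, ← mul_assoc, hww, one_mul, mul_assoc, hww, mul_one])
    obtain ⟨e0, he0⟩ : ∃ e0 : E, e0 ∉ Mw := by
      by_contra hall
      push Not at hall
      exact hcentral hall
    have hzM : z' ∈ Mw := by
      rw [hmemM, hzz]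
      exact (Subgroup.mem_centralizer_singleton_iff.mp hwC).symm
    have hMn : Mw.Normal := Subgroup.normal_of_index_eq_two h2
    set m : E := e0⁻¹ * σ e0 with hm
    have hσe0 : σ e0 = e0 * m := by rw [hm, mul_inv_cancel_left]
    have hmM : m ∈ Mw := by
      refine (Subgroup.mul_mem_iff_of_index_two h2).mpr (iff_of_false (fun h => he0 (inv_mem_iff.mp h)) fun h => ?_)
      have := (hσM _).mpr h
      rw [hσσ] at this
      exact he0 (this ▸ h)
    have hm2 : m * m = 1 := by
      have := hσσ e0
      rw [hσe0, map_mul, hσe0, (hσM m).mpr hmM, mul_assoc, mul_eq_left] at this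
      exact this
    have hmMc : ∀ k ∈ Mw, m * k = k * m := by
      intro k hk
      have h1 := (hσM _).mpr (hMn.conj_mem k hk e0)
      rw [map_mul, map_mul, map_inv, (hσM k).mpr hk, hσe0] at h1
      calc m * k = e0⁻¹ * (e0 * m * k * (e0 * m)⁻¹) * e0 * m := by group
        _ = e0⁻¹ * (e0 * k * e0⁻¹) * e0 * m := by rw [h1]
        _ = k * m := by group
    have hme0 : m * e0 = e0 * m := by
      have he : e0 * e0 ∈ Mw := by
        rcases hx.sq e0 with h | h <;> rw [h]
        exacts [one_mem _, hzM]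
      have h1 := (hσM _).mpr he
      rw [map_mul, hσe0, mul_assoc, mul_right_inj] at h1
      calc m * e0 = m * (e0 * m) * m⁻¹ := by group
        _ = e0 * m := by rw [h1, inv_eq_of_mul_eq_one_right hm2]
    have hmc : m ∈ Subgroup.center E := by
      refine Subgroup.mem_center_iff.mpr fun k => ?_
      by_cases hk : k ∈ Mw
      · exact (hmMc k hk).symm
      · have hk' : e0⁻¹ * k ∈ Mw :=
          (Subgroup.mul_mem_iff_of_index_two h2).mpr (iff_of_false (fun h => he0 (inv_mem_iff.mp h)) hk)
        have h1 : Commute m (e0 * (e0⁻¹ * k)) := (show Commute m e0 from hme0).mul_right (hmMc _ hk')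
        rw [mul_inv_cancel_left] at h1
        exact h1.eq.symm
    rcases (hx.center_iff m).mp hmc with h | h
    · rw [hm, inv_mul_eq_one] at h
      exact he0 ((hσM e0).mp h.symm)
    · -- correct `w` by an element centralising the subgroup of index two
      have hc4 := hx.card_mul_card_centralizer (A := Mw) hzM
      rw [← Mw.card_mul_index, h2, mul_assoc] at hc4
      have hc4' := Nat.eq_of_mul_eq_mul_left Nat.card_pos hc4
      obtain ⟨u, hu, hu'⟩ : ∃ u ∈ Subgroup.centralizer (Mw : Set E), u ∉ Subgroup.center E := by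
        by_contra hall
        push Not at hall
        have := Subgroup.card_le_of_le hall
        rw [hc4', hx.card_center] at this
        omega
      have hue : ⁅u, e0⁆ = z' := (hx.comm_cases u e0).resolve_left fun h' => hu' (by
        refine Subgroup.mem_center_iff.mpr fun k => ?_
        by_cases hk : k ∈ Mw
        · exact Subgroup.mem_centralizer_iff.mp hu k hk
        · have hk' : e0⁻¹ * k ∈ Mw :=
            (Subgroup.mul_mem_iff_of_index_two h2).mpr (iff_of_false (fun h => he0 (inv_mem_iff.mp h)) hk)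
          have h1 : Commute u (e0 * (e0⁻¹ * k)) := (commutatorElement_eq_one_iff_commute.mp h').mul_right
            (Subgroup.mem_centralizer_iff.mp hu _ hk').symm
          rw [mul_inv_cancel_left] at h1
          exact h1.eq.symm)
      refine hwE ?_
      have huw : ∀ k : E, u * σ k * u⁻¹ = k := by
        have hMfix : ∀ k ∈ Mw, u * σ k * u⁻¹ = k := fun k hk => by
          rw [(hσM k).mpr hk, mul_inv_eq_iff_eq_mul]
          exact (Subgroup.mem_centralizer_iff.mp hu k hk).symm
        have he0fix : u * σ e0 * u⁻¹ = e0 := by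
          rw [hσe0, h]
          calc u * (e0 * z') * u⁻¹ = ⁅u, e0⁆ * e0 * (u * z' * u⁻¹) := by rw [commutatorElement_def]; group
            _ = z' * e0 * z' := by rw [hue, (hx.z_comm u).eq, mul_inv_cancel_right]
            _ = e0 := by rw [← (hx.z_comm e0).eq, mul_assoc, hx.zz, mul_one]
        intro k
        by_cases hk : k ∈ Mw
        · exact hMfix k hk
        · have hk' : e0⁻¹ * k ∈ Mw :=
            (Subgroup.mul_mem_iff_of_index_two h2).mpr (iff_of_false (fun h => he0 (inv_mem_iff.mp h)) hk)
          calc u * σ k * u⁻¹ = (u * σ e0 * u⁻¹) * (u * σ (e0⁻¹ * k) * u⁻¹) := by rw [map_mul, map_inv]; group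
            _ = k := by rw [he0fix, hMfix _ hk', mul_inv_cancel_left]
      have h1 : (u : G) * w ∈ Subgroup.centralizer (E : Set G) := by
        refine Subgroup.mem_centralizer_iff.mpr fun b hb => ?_
        have h2 : (u : G) * (w * b * w⁻¹) * (u : G)⁻¹ = b := congrArg Subtype.val (huw ⟨b, hb⟩)
        conv_lhs => rw [← h2]
        group
      have := E.mul_mem (E.inv_mem u.2) (hcent h1)
      rwa [inv_mul_cancel_left] at this
  -- a Sylow subgroup of the centralizer
  obtain ⟨S, hS⟩ := (show IsPGroup 2 (E.subgroupOf (Subgroup.centralizer ({z} : Set G))) from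
    IsPGroup.of_equiv hext.1.1 (Subgroup.subgroupOfEquivOfLe hEC).symm).exists_le_sylow
  let P : Subgroup G := (S : Subgroup (Subgroup.centralizer ({z} : Set G))).map (Subgroup.centralizer ({z} : Set G)).subtype
  have hPC : P ≤ (Subgroup.centralizer ({z} : Set G)) := Subgroup.map_subtype_le _
  have hEP : E ≤ P := fun e he => ⟨⟨e, hEC he⟩, hS he, rfl⟩
  haveI hEn : (E.subgroupOf P).Normal := ⟨fun k hk g => hnorm g (hPC g.2) k hk⟩
  have hnil : Group.IsNilpotent P := (S.isPGroup'.map (Subgroup.centralizer ({z} : Set G)).subtype).isNilpotent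
  let c : P → G ⧸ (Subgroup.centralizer ({z} : Set G)) → Multiplicative (ZMod 2) := fun g q => CfsgLib.TransferOrbit.cval χ (g : G) q
  have hc : ∀ g h x, c (g * h) x = c g (h • x) * c h x := fun g h x => CfsgLib.TransferOrbit.cval_mul χ g h x
  have hzP : z ∈ P := hEP hzE
  have hzz2 : (⟨z, hzP⟩ : P) * ⟨z, hzP⟩ = 1 := Subtype.ext (by
    change z * z = 1
    rw [← pow_two, ← hz, pow_orderOf_eq_one])
  have hstab : ∀ (h x : G), h • (x : G ⧸ (Subgroup.centralizer ({z} : Set G))) = x ↔ x⁻¹ * h * x ∈ (Subgroup.centralizer ({z} : Set G)) := fun h x => by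
    rw [show h • (x : G ⧸ (Subgroup.centralizer ({z} : Set G))) = ((h * x : G) : G ⧸ (Subgroup.centralizer ({z} : Set G))) from rfl, eq_comm, QuotientGroup.eq, mul_assoc]
  have hq₀ : ∀ g : P, g • ((1 : G) : G ⧸ (Subgroup.centralizer ({z} : Set G))) = ((1 : G) : G ⧸ (Subgroup.centralizer ({z} : Set G))) := fun g =>
    (hstab g 1).mpr (by rw [inv_one, one_mul, mul_one]; exact hPC g.2)
  have hcase : ∀ q : G ⧸ (Subgroup.centralizer ({z} : Set G)), q ≠ ((1 : G) : G ⧸ (Subgroup.centralizer ({z} : Set G))) → (⟨z, hzP⟩ : P) • q ≠ q ∨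
      ∀ M : Subgroup P, (∀ x, x ∈ M ↔ x ∈ E.subgroupOf P ∧ x • q = q) →
        (8 * Nat.card M ≤ Nat.card (E.subgroupOf P) ∨
          (4 * Nat.card M ≤ Nat.card (E.subgroupOf P) ∧ c ⟨z, hzP⟩ q = 1)) ∨
        (2 * Nat.card M ≤ Nat.card (E.subgroupOf P) ∧ ∀ m ∈ M, c m q = 1) := by
    intro q hq
    refine or_iff_not_imp_left.mpr fun hzq M hM => ?_
    push Not at hzq
    obtain ⟨x, rfl⟩ := QuotientGroup.mk_surjective q
    set w := x * z * x⁻¹ with hw
    have hfix : ∀ g : G, g • (x : G ⧸ (Subgroup.centralizer ({z} : Set G))) = x ↔ g * w = w * g := fun g => by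
      rw [hstab, Subgroup.mem_centralizer_singleton_iff, hw]
      constructor
      · intro h
        calc g * (x * z * x⁻¹) = x * (x⁻¹ * g * x * z) * x⁻¹ := by group
          _ = x * (z * (x⁻¹ * g * x)) * x⁻¹ := by rw [h]
          _ = x * z * x⁻¹ * g := by group
      · intro h
        calc x⁻¹ * g * x * z = x⁻¹ * (g * (x * z * x⁻¹)) * x := by group
          _ = x⁻¹ * (x * z * x⁻¹ * g) * x := by rw [h]
          _ = z * (x⁻¹ * g * x) := by group
    have hwC : w ∈ (Subgroup.centralizer ({z} : Set G)) := Subgroup.mem_centralizer_singleton_iff.mpr ((hfix z).mp hzq).symm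
    by_cases hwE : w ∈ E
    · right
      have hwz : w ≠ z := fun h => hq (QuotientGroup.eq.mpr (by
        rw [mul_one, inv_mem_iff, Subgroup.mem_centralizer_singleton_iff]
        exact mul_inv_eq_iff_eq_mul.mp h))
      have hw1 : w ≠ 1 := fun h => by
        have h1 : z = 1 := by
          calc z = x⁻¹ * w * x := by rw [hw]; group
            _ = 1 := by rw [h]; group
        rw [h1, orderOf_one] at hz
        norm_num at hz
      refine ⟨?_, fun m hm => ?_⟩
      · set Mw := (Subgroup.centralizer ({w} : Set G)).subgroupOf E with hMw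
        have hcardM : Nat.card M = Nat.card Mw := by
          refine Nat.card_congr ⟨fun g => ⟨⟨(g : P), ((hM g).mp g.2).1⟩, ?_⟩, fun k => ⟨⟨(k : E), hEP (k : E).2⟩, ?_⟩,
            fun g => rfl, fun k => rfl⟩
          · exact Subgroup.mem_centralizer_singleton_iff.mpr ((hfix _).mp ((hM g).mp g.2).2)
          · exact (hM _).mpr ⟨(k : E).2, (hfix _).mpr (Subgroup.mem_centralizer_singleton_iff.mp k.2)⟩
        rw [hcardM, Nat.card_congr (Subgroup.subgroupOfEquivOfLe hEP).toEquiv, ← Mw.card_mul_index, mul_comm 2]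
        refine Nat.mul_le_mul_left _ (Nat.two_le_iff _ |>.mpr ⟨Subgroup.index_ne_zero_of_finite, fun h1 => ?_⟩)
        have hcw : (⟨w, hwE⟩ : E) ∈ Subgroup.center E := Subgroup.mem_center_iff.mpr fun k => by
          have hk : k ∈ Mw := Subgroup.index_eq_one.mp h1 ▸ Subgroup.mem_top k
          exact Subtype.ext (Subgroup.mem_centralizer_singleton_iff.mp hk)
        rcases (hx.center_iff _).mp hcw with h | h
        · exact hw1 (congrArg Subtype.val h)
        · exact hwz ((congrArg Subtype.val h).trans hzz)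
      · obtain ⟨hmE, hmq⟩ := (hM m).mp hm
        have hm' : x⁻¹ * (m : G) * x ∈ (Subgroup.centralizer ({z} : Set G)) := (hstab _ x).mp hmq
        change CfsgLib.TransferOrbit.cval χ (m : G) (x : G ⧸ (Subgroup.centralizer ({z} : Set G))) = 1
        rw [CfsgLib.TransferOrbit.cval_eq χ (g := (m : G)) (x := x) hmq hm']
        exact if_pos (hgood x hwE hwz _ hmE ((hfix _).mp hmq) hm')
    left
    obtain ⟨hi1, hi2⟩ := hindex w hwC (by
      rw [hw, show x * z * x⁻¹ * (x * z * x⁻¹) = x * (z * z) * x⁻¹ by group, ← pow_two, ← hz, pow_orderOf_eq_one]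
      simp) hwE
    set Mw := (Subgroup.centralizer ({w} : Set G)).subgroupOf E
    have hcardM : Nat.card M = Nat.card Mw := by
      refine Nat.card_congr ⟨fun g => ⟨⟨(g : P), ((hM g).mp g.2).1⟩, ?_⟩, fun k => ⟨⟨(k : E), hEP (k : E).2⟩, ?_⟩,
        fun g => rfl, fun k => rfl⟩
      · exact Subgroup.mem_centralizer_singleton_iff.mpr ((hfix _).mp ((hM g).mp g.2).2)
      · exact (hM _).mpr ⟨(k : E).2, (hfix _).mpr (Subgroup.mem_centralizer_singleton_iff.mp k.2)⟩
    have hcardE : Nat.card (E.subgroupOf P) = Nat.card E := Nat.card_congr (Subgroup.subgroupOfEquivOfLe hEP).toEquiv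
    rw [hcardM, hcardE, ← Mw.card_mul_index, mul_comm 8, mul_comm 4]
    obtain ⟨i, -, hi⟩ := (Nat.dvd_prime_pow Nat.prime_two).mp (hcard ▸ Mw.index_dvd_card)
    rcases Nat.lt_or_ge i 3 with hlt | hge
    · right
      have hi4 : Mw.index = 4 := by
        interval_cases i
        · exact absurd hi hi1
        · exact absurd hi hi2
        · exact hi
      refine ⟨by rw [hi4], ?_⟩
      -- the subgroup fixing the point is not abelian
      obtain ⟨u, hu, v, hv, huv⟩ : ∃ u ∈ Mw, ∃ v ∈ Mw, ¬ u * v = v * u := by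
        by_contra hall
        push Not at hall
        have hle : Mw ≤ Subgroup.centralizer (Mw : Set E) := fun u hu =>
          Subgroup.mem_centralizer_iff.mpr fun v hv => hall v hv u hu
        have hzM : z' ∈ Mw := by
          change (z' : G) ∈ Subgroup.centralizer ({w} : Set G)
          rw [hzz]
          exact Subgroup.mem_centralizer_singleton_iff.mpr ((hfix z).mp hzq)
        have hc4 := hx.card_mul_card_centralizer (A := Mw) hzM
        have h1 := Subgroup.card_le_of_le hle
        have h2 := Mw.card_mul_index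
        rw [hi4] at h2
        nlinarith
      have hst : ∀ k : E, k ∈ Mw → ((k : E) : G) • (x : G ⧸ (Subgroup.centralizer ({z} : Set G))) = x := fun k hk =>
        (hfix _).mpr (Subgroup.mem_centralizer_singleton_iff.mp hk)
      have hz' : u * v = z' * (v * u) := by
        rw [← (hx.comm_cases u v).resolve_left fun h => huv (commutatorElement_eq_one_iff_commute.mp h).eq,
          commutatorElement_def]
        group
      have hz'' : (⟨(u : G), hEP u.2⟩ : P) * ⟨(v : G), hEP v.2⟩ =
          ⟨z, hzP⟩ * (⟨(v : G), hEP v.2⟩ * ⟨(u : G), hEP u.2⟩) := Subtype.ext (by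
        change (u : G) * v = z * ((v : G) * u)
        rw [← hzz]
        exact congrArg Subtype.val hz')
      have hu' : (⟨(u : G), hEP u.2⟩ : P) • (x : G ⧸ (Subgroup.centralizer ({z} : Set G))) = x := hst u hu
      have hv' : (⟨(v : G), hEP v.2⟩ : P) • (x : G ⧸ (Subgroup.centralizer ({z} : Set G))) = x := hst v hv
      have h1 := congrArg (fun g => c g (x : G ⧸ (Subgroup.centralizer ({z} : Set G)))) hz''
      simp only [hc, mul_smul, hu', hv'] at h1
      rw [mul_comm (c ⟨(u : G), _⟩ _)] at h1
      exact mul_eq_right.mp h1.symm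
    · left
      rw [hi]
      exact Nat.mul_le_mul_left _ (le_trans (by norm_num : 8 ≤ 2 ^ 3) (Nat.pow_le_pow_right (by norm_num) hge))
  have hkill : ∀ g : P, MonoidHom.transfer χ (g : G) = χ ⟨g, hPC g.2⟩ := by
    intro g
    have horb : ∀ q, q ≠ ((1 : G) : G ⧸ (Subgroup.centralizer ({z} : Set G))) → ∀ g : P, ∏ x ∈ CfsgLib.TransferOrbit.orb (⊤ : Subgroup P) q, c g x = 1 :=
      fun q hq g => CfsgLib.ExtraTransfer.orbit_eq_one hc hnil hA (E.subgroupOf P) (z := ⟨z, hzP⟩) hzE
        (fun g => Subtype.ext (Subgroup.mem_centralizer_singleton_iff.mp (hPC g.2))) hzz2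
        (fun k hk => by
          rcases hx.sq ⟨k, hk⟩ with h | h
          · exact Or.inl (Subtype.ext (congrArg (fun b : E => (b : G)) h))
          · exact Or.inr (Subtype.ext ((congrArg (fun b : E => (b : G)) h).trans hzz)))
        (fun a ha b hb => by
          rcases hx.comm_cases ⟨(b : G), hb⟩⁻¹ ⟨(a : G), ha⟩⁻¹ with h | h
          · refine Or.inl (Subtype.ext ?_)
            have h' := congrArg (fun k : E => (k : G)) h
            simpa [commutatorElement_def] using h'
          · refine Or.inr (Subtype.ext ?_)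
            have h' := congrArg (fun k : E => (k : G)) h
            simp only [commutatorElement_def, hzz] at h'
            simpa using h')
        q (hcase q hq) g
    rw [CfsgLib.TransferOrbit.transfer_eq_prod,
      show ∏ q : G ⧸ (Subgroup.centralizer ({z} : Set G)), CfsgLib.TransferOrbit.cval χ (g : G) q = c g ((1 : G) : G ⧸ (Subgroup.centralizer ({z} : Set G))) from
        CfsgLib.TransferOrbit.prod_univ_eq hc ((1 : G) : G ⧸ (Subgroup.centralizer ({z} : Set G))) hq₀ horb g]
    have hm : (1 : G)⁻¹ * (g : G) * 1 ∈ (Subgroup.centralizer ({z} : Set G)) := by rw [inv_one, one_mul, mul_one]; exact hPC g.2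
    refine (CfsgLib.TransferOrbit.cval_eq χ (g := (g : G)) (x := (1 : G)) (hq₀ g) hm).trans ?_
    exact congrArg χ (Subtype.ext (by group))
  -- the transfer extends the character
  set V := MonoidHom.transfer χ with hV
  let δ : (Subgroup.centralizer ({z} : Set G)) →* Multiplicative (ZMod 2) := V.comp (Subgroup.centralizer ({z} : Set G)).subtype * χ
  have hδ : (S : Subgroup (Subgroup.centralizer ({z} : Set G))) ≤ δ.ker := fun s hs => by
    rw [MonoidHom.mem_ker]
    change V (s : G) * χ s = 1
    rw [hV, hkill ⟨(s : G), ⟨s, hs, rfl⟩⟩]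
    exact hA _
  have hδ1 : ∀ c : (Subgroup.centralizer ({z} : Set G)), δ c = 1 := by
    have hi := Subgroup.index_dvd_of_le hδ
    rw [Subgroup.index_ker] at hi
    have hd : Nat.card δ.range ∣ 2 := by
      have := Subgroup.card_subgroup_dvd_card δ.range
      rwa [Nat.card_eq_fintype_card (α := Multiplicative (ZMod 2))] at this
    rcases (Nat.dvd_prime Nat.prime_two).mp hd with h | h
    · intro c
      have : δ c ∈ δ.range := ⟨c, rfl⟩
      rwa [Subgroup.card_eq_one.mp h, Subgroup.mem_bot] at this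
    · rw [h] at hi
      exact absurd hi S.not_dvd_index
  have hVχ : ∀ c : (Subgroup.centralizer ({z} : Set G)), V (c : G) = χ c := fun c =>
    mul_right_cancel ((show V (c : G) * χ c = 1 from hδ1 c).trans (hA _).symm)
  have hχ1 : ∀ c : (Subgroup.centralizer ({z} : Set G)), χ c = 1 ↔ c ∈ K' := fun c => by
    show (if c ∈ K' then (1 : Multiplicative (ZMod 2)) else Multiplicative.ofAdd 1) = 1 ↔ _
    split
    · simpa
    · next h => exact iff_of_false (fun e => one_ne_zero (ofAdd_eq_one.mp e)) h
  refine ⟨V.ker, ?_, fun h hh => by rw [MonoidHom.mem_ker, ← hχ1]; rw [show V h = χ ⟨h, hh⟩ from hVχ ⟨h, hh⟩]⟩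
  obtain ⟨c, hc'⟩ : ∃ c : (Subgroup.centralizer ({z} : Set G)), c ∉ K' := by
    by_contra hall
    push Not at hall
    have : K' = ⊤ := eq_top_iff.mpr fun c _ => hall c
    rw [this, Subgroup.index_top] at hK'
    norm_num at hK'
  have hd : Nat.card V.range ∣ 2 := by
    have := Subgroup.card_subgroup_dvd_card V.range
    rwa [Nat.card_eq_fintype_card (α := Multiplicative (ZMod 2))] at this
  rw [Subgroup.index_ker]
  refine ((Nat.dvd_prime Nat.prime_two).mp hd).resolve_left fun h => hc' ((hχ1 c).mp ?_)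
  have : V (c : G) ∈ V.range := ⟨c, rfl⟩
  rwa [Subgroup.card_eq_one.mp h, Subgroup.mem_bot, hVχ] at this

end CfsgLib.U6Chz.Aut
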