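/-
A centraliser whose image has a symplectic subgroup of index two: either the involution is isolated or the
subgroup of index two extends to the whole group.
-/
import Cfsg.Agent.Lib.U6Chz.Aut.Inner
import Cfsg.Agent.Lib.U6Chz.Aut.Transfer
import Cfsg.Agent.Lib.U6Chz.SixBuild

set_option autoImplicit false
set_option maxRecDepth 100000
set_option linter.unusedVariables false

namespace CfsgLib.U6Chz.Aut

open CfsgLib.U42Act (bq qW Chart Action Natural Fixed)
open U6Rec (app comp InU qf polar)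

theorem high_low : ∀ e < 2, ∀ v < 64, ∀ b ∈ [0, 64, 128, 192], bq (qW e) v b = 0 := by decide +kernel

theorem high_list : ∀ v < 256, v &&& 63 = 0 → v ∈ [0, 64, 128, 192] := by decide +kernel

theorem gen_form : ∀ k < 5, comp (U6Rec.gen k) U6Rec.one = U6Rec.gen k := by decide +kernel

theorem gen_moves : ((List.range 64).all fun w => Nat.beq w 0 || (List.range 5).any fun k =>
    !Nat.beq (app (SixTwoType.genPsi.getD k 0) w) w) = true := by decide +kernel

theorem X0_moves {w : ℕ} (hw : w < 64) (h0 : w ≠ 0) : ∃ g ∈ SixTwoType.X0, SixTwoType.pw g w ≠ w := by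
  have t := List.all_eq_true.mp gen_moves w (List.mem_range.mpr hw)
  simp only [Bool.or_eq_true, Nat.beq_eq, h0, false_or] at t
  obtain ⟨k, hk, t⟩ := List.any_eq_true.mp t
  have hk5 := List.mem_range.mp hk
  have hU : InU (U6Rec.gen k) := by
    have := U42Act.gen_left hk5 U6Rec.inU_one
    rwa [gen_form k hk5] at this
  refine ⟨⟨U6Rec.gen k, Or.inl hU⟩, hU, fun e => ?_⟩
  have hg : SixTwoType.genPsi.getD k 0 = SixTwoType.psi (U6Rec.gen k) := by
    rw [← SixTwoType.gen_psi]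
    interval_cases k <;> simp [List.range_succ]
  rw [hg] at t
  rw [Bool.not_eq_true', ← Bool.not_eq_true, Nat.beq_eq] at t
  exact t e

variable {G : Type*} [Group G] [Finite G] (D : Chz G) {X : Type*} [Group X] [Finite X]
  (π : ↥(Subgroup.centralizer ({D.z} : Set G)) →* X) (hπ : Function.Surjective π)
  (hk : ∀ h, π h = 1 ↔ (h : G) ∈ D.J) (N : Subgroup X)

/-- The action of the subgroup of index two. -/
noncomputable def sub : Action ↥N where
  act x v := (action D π hπ hk).act x.1 v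
  q := (action D π hπ hk).q
  lt x := (action D π hπ hk).lt x.1
  add x := (action D π hπ hk).add x.1
  mul x y := (action D π hπ hk).mul x.1 y.1
  one := (action D π hπ hk).one
  faithful x hx := Subtype.ext ((action D π hπ hk).faithful x.1 hx)
  q_lt := (action D π hπ hk).q_lt
  q_zero := (action D π hπ hk).q_zero
  q_inv x := (action D π hπ hk).q_inv x.1
  q_add := (action D π hπ hk).q_add
  q_nd := (action D π hπ hk).q_nd

/-- Natural coordinates give the data. -/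
theorem natural_frame (hN : N.index = 2) (cN : Nat.card N = 25920) (hA : Natural (sub D π hπ hk N)) :
    ∃ F : Frame G X, F.D = D ∧ ∀ g : G, F.In g ↔ ∃ hg, π ⟨g, hg⟩ ∈ N := by
  obtain ⟨ψ, r, hψ, hq, hrU, hrs, hr⟩ := hA
  have hact : ∀ (h : ↥(Subgroup.centralizer ({D.z} : Set G))), ∀ v < 256,
      (action D π hπ hk).act (π h) v = D.act h v := fun h v hv => action_act D π hπ hk h hv
  have rinj : Function.Injective r := fun a b e => by
    refine inv_mul_eq_one.mp ((sub D π hπ hk N).faithful _ fun w hw => ?_)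
    obtain ⟨v, hv, rfl⟩ := hψ.surj w hw
    rw [(sub D π hπ hk N).mul _ _ _ hw, hr b v hv, ← e, ← hr a v hv, ← (sub D π hπ hk N).mul _ _ _ hw,
      inv_mul_cancel, (sub D π hπ hk N).one _ hw]
  have rmul : ∀ x y, r (x * y) = comp (r x) (r y) := fun x y => by
    refine (hrU _).ext (U42Act.inU_comp (hrU x) (hrU y)) fun v hv => ?_
    rw [U6Rec.app_comp]
    refine hψ.inj _ _ (U6Rec.app_lt _ _) (U6Rec.app_lt _ _) ?_
    rw [← hr _ v hv, (sub D π hπ hk N).mul _ _ _ (hψ.lt v hv), hr y v hv, hr x _ (U6Rec.app_lt _ _)]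
  exact ⟨
    { D := D
      π := π
      hk := hk
      hπ := hπ
      N := N
      hN := hN
      cardN := cN
      co := fun g => inverse ψ (D.κ g)
      co_lt := fun j hj => (inverse_spec hψ (D.κ_lt j hj)).1
      co_mul := fun a ha b hb => by rw [D.κ_mul a ha b hb, inverse_add hψ (D.κ_lt a ha) (D.κ_lt b hb)]
      co_ker := fun j hj => by rw [inverse_zero hψ (D.κ_lt j hj), D.κ_ker j hj]
      co_surj := fun v hv => by
        obtain ⟨j, hj, ej⟩ := D.κ_surj _ (hψ.lt v hv)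
        exact ⟨j, hj, by rw [ej, inverse_apply hψ hv]⟩
      sq := fun j hj => by
        obtain ⟨l, el⟩ := inverse_spec hψ (D.κ_lt j hj)
        rw [← hq _ l, el]; exact D.sq hj
      comm := fun a ha b hb => by
        obtain ⟨la, ea⟩ := inverse_spec hψ (D.κ_lt a ha)
        obtain ⟨lb, eb⟩ := inverse_spec hψ (D.κ_lt b hb)
        rw [D.comm_iff ha hb]
        have e1 : bq D.q (D.κ a) (D.κ b) = bq qf (inverse ψ (D.κ a)) (inverse ψ (D.κ b)) := by
          conv_lhs => rw [← ea, ← eb]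
          show D.q _ ^^^ D.q _ ^^^ D.q _ = _
          rw [← hψ.add _ _ la lb]
          show (sub D π hπ hk N).q _ ^^^ (sub D π hπ hk N).q _ ^^^ (sub D π hπ hk N).q _ = _
          rw [hq _ (U42Act.xlt la lb), hq _ la, hq _ lb]
          rfl
        rw [e1, bq, U6Rec.qf_add la lb]
        generalize qf (inverse ψ (D.κ a)) = u
        generalize qf (inverse ψ (D.κ b)) = v
        generalize polar (inverse ψ (D.κ a)) (inverse ψ (D.κ b)) = w
        rw [show u ^^^ v ^^^ w ^^^ u ^^^ v = w by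
          rw [Nat.xor_comm (u ^^^ v) w, Nat.xor_assoc, Nat.xor_assoc, Nat.xor_self, Nat.xor_zero]]
      r := r
      r_mem := hrU
      r_surj := hrs
      r_mul := rmul
      r_inj := rinj
      r_conj := fun h hh j hj => by
        obtain ⟨l, el⟩ := inverse_spec hψ (D.κ_lt j hj)
        rw [← D.act_κ (Subgroup.mem_centralizer_singleton_iff.mp h.2) hj, ← hact h _ (D.κ_lt j hj)]
        conv_lhs => rw [← el]
        show inverse ψ ((sub D π hπ hk N).act ⟨π h, hh⟩ _) = _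
        rw [hr _ _ l, inverse_apply hψ (U6Rec.app_lt _ _)] }, rfl, fun g => Iff.rfl⟩

/-- Coordinates with a fixed plane isolate the involution. -/
theorem fixed_isolated (hN : N.index = 2) (hsimp : IsSimpleGroup ↥N) (cN : Nat.card N = 25920)
    (hcent : ∀ x : X, (∀ n ∈ N, x * n = n * x) → x = 1) (hA : Fixed (sub D π hπ hk N))
    (f : G) (hf : Commute (f * D.z * f⁻¹) D.z) : f * D.z * f⁻¹ = D.z := by
  classical
  obtain ⟨ψ, ε, hε, hψ, hq, hfix, hlow⟩ := hA
  set A := action D π hπ hk with hA'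
  have hfix : ∀ n ∈ N, ∀ v < 256, v &&& 63 = 0 → A.act n (ψ v) = ψ v := fun n hn => hfix ⟨n, hn⟩
  have hlow : ∀ n ∈ N, ∀ v < 64, ∃ w < 64, A.act n (ψ v) = ψ w := fun n hn => hlow ⟨n, hn⟩
  have hq : ∀ v < 256, A.q (ψ v) = qW ε v := hq
  haveI hNn : N.Normal := Subgroup.normal_of_index_eq_two hN
  have l2 : ∀ {v}, v < 64 → v < 256 := fun h => by omega
  have isom : ∀ n : ↥N, ∃ g : SixTwoType.XG, ∀ v < 64, A.act n.1 (ψ v) = ψ (SixTwoType.pw g v) := by
    intro n
    choose w hw ew using hlow n.1 n.2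
    let φ : ℕ → ℕ := fun v => if hv : v < 64 then w v hv else 0
    have fe : ∀ v (hv : v < 64), φ v = w v hv := fun v hv => dif_pos hv
    obtain ⟨g, hg⟩ := SixTwoType.isom_psi φ (fun v hv => by rw [fe v hv]; exact hw v hv)
      (fun u hu v hv => by
        have hl := Nat.xor_lt_two_pow (n := 6) hu hv
        rw [fe _ hl, fe u hu, fe v hv]
        refine hψ.inj _ _ (l2 (hw _ hl)) (U42Act.xlt (l2 (hw _ hu)) (l2 (hw _ hv))) ?_
        rw [hψ.add _ _ (l2 (hw _ hu)) (l2 (hw _ hv)), ← ew, ← ew, ← ew, hψ.add u v (l2 hu) (l2 hv),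
          A.add _ _ _ (hψ.lt u (l2 hu)) (hψ.lt v (l2 hv))])
      (fun v hv => by
        rw [fe v hv, ← (SixTwoType.qW_split ε hε _ (l2 (hw v hv))).2.2.2.1 (hw v hv),
          ← (SixTwoType.qW_split ε hε v (l2 hv)).2.2.2.1 hv, ← hq _ (l2 (hw v hv)), ← ew,
          A.q_inv _ _ (hψ.lt v (l2 hv)), hq v (l2 hv)])
    exact ⟨g, fun v hv => by rw [ew v hv, hg v hv, fe v hv]⟩
  choose s hs using isom
  have whole : ∀ n ∈ N, (∀ v < 64, A.act n (ψ v) = ψ v) → n = 1 := fun n hn hx => A.faithful n fun w hw => by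
    obtain ⟨v, hv, rfl⟩ := hψ.surj w hw
    obtain ⟨e1, l, lu, hu, -, -⟩ := SixTwoType.parts v hv
    rw [e1, hψ.add _ _ (l2 l) lu, A.add n _ _ (hψ.lt _ (l2 l)) (hψ.lt _ lu), hx _ l, hfix n hn _ lu hu]
  have smul : ∀ x y, s (x * y) = s x * s y := by
    intro x y
    rw [← inv_mul_eq_one]
    refine SixTwoType.pw_inj fun v hv => ?_
    have : SixTwoType.pw (s (x * y)) v = SixTwoType.pw (s x * s y) v := by
      refine hψ.inj _ _ (SixTwoType.pw_lt _ _) (SixTwoType.pw_lt _ _) ?_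
      rw [← hs _ v hv, Subgroup.coe_mul, A.mul _ _ _ (hψ.lt v (l2 hv)), hs y v hv, hs x _ (SixTwoType.pw_six _ hv),
        SixTwoType.pw_mul]
    rw [SixTwoType.pw_mul, ← this, SixTwoType.pw_inv_self _ (l2 hv)]
  let S : ↥N →* SixTwoType.XG := MonoidHom.mk' s smul
  have Sinj : Function.Injective S := by
    rw [← MonoidHom.ker_eq_bot_iff, eq_bot_iff]
    intro x hx
    refine Subgroup.mem_bot.mpr (Subtype.ext (whole x.1 x.2 fun v hv => ?_))
    have e1 : s x = 1 := hx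
    rw [hs x v hv, e1, SixTwoType.pw_one (l2 hv)]
  haveI := hsimp
  have hrange : S.range = SixTwoType.X0 := range_X0 cN S Sinj
  -- the vectors fixed by the subgroup are those of the plane
  have high : ∀ v < 256, (∀ n ∈ N, A.act n (ψ v) = ψ v) → v &&& 63 = 0 := by
    intro v hv hf
    by_contra h0
    obtain ⟨e1, l, lu, hu, -, -⟩ := SixTwoType.parts v hv
    obtain ⟨g, hg, hmv⟩ := X0_moves l h0
    rw [← hrange] at hg
    obtain ⟨n, rfl⟩ := hg
    refine hmv ?_
    have e2 := hf n.1 n.2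
    rw [e1, hψ.add _ _ (l2 l) lu, A.add _ _ _ (hψ.lt _ (l2 l)) (hψ.lt _ lu), hs n _ l, hfix n.1 n.2 _ lu hu,
      ← hψ.add _ _ (SixTwoType.pw_lt _ _) lu, ← hψ.add _ _ (l2 l) lu] at e2
    have e3 := hψ.inj _ _ (U42Act.xlt (SixTwoType.pw_lt _ _) lu) (U42Act.xlt (l2 l) lu) e2
    have e4 := congrArg (fun t => t ^^^ (v &&& 192)) e3
    show SixTwoType.pw (s n) _ = _
    simpa [Nat.xor_assoc] using e4
  have hU : ∀ x : X, ∀ v < 256, v &&& 63 = 0 → ∃ w < 256, w &&& 63 = 0 ∧ A.act x (ψ v) = ψ w := by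
    intro x v hv h0
    obtain ⟨w, hw, ew⟩ := hψ.surj _ (A.lt x _ (hψ.lt v hv))
    refine ⟨w, hw, high w hw fun n hn => ?_, ew.symm⟩
    rw [ew, ← A.mul n x _ (hψ.lt v hv), show n * x = x * (x⁻¹ * n * x) by group, A.mul _ _ _ (hψ.lt v hv),
      hfix _ (by simpa using hNn.conj_mem n hn x⁻¹) v hv h0]
  have hW : ∀ x : X, ∀ v < 64, ∃ w < 64, A.act x (ψ v) = ψ w := by
    intro x v hv
    obtain ⟨w, hw, ew⟩ := hψ.surj _ (A.lt x _ (hψ.lt v (l2 hv)))
    refine ⟨w, (U42Act.perp_low ε hε w hw).mpr ?_, ew.symm⟩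
    have key : ∀ b ∈ [64, 128], bq (qW ε) w b = 0 := by
      intro b hb
      have hb2 : b < 256 ∧ b &&& 63 = 0 := (show ∀ b ∈ [64, 128], b < 256 ∧ b &&& 63 = 0 by decide) b hb
      obtain ⟨c, hc, hc0, ec⟩ := hU x⁻¹ b hb2.1 hb2.2
      have ec' : A.act x (ψ c) = ψ b := by
        rw [← ec, ← A.mul _ _ _ (hψ.lt b hb2.1), mul_inv_cancel, A.one _ (hψ.lt b hb2.1)]
      have e1 : qW ε (w ^^^ b) = qW ε (v ^^^ c) := by
        rw [← hq _ (U42Act.xlt hw hb2.1), hψ.add _ _ hw hb2.1, ew, ← ec',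
          ← A.add x _ _ (hψ.lt v (l2 hv)) (hψ.lt c hc), ← hψ.add _ _ (l2 hv) hc,
          A.q_inv x _ (hψ.lt _ (U42Act.xlt (l2 hv) hc)), hq _ (U42Act.xlt (l2 hv) hc)]
      have e2 : qW ε w = qW ε v := by rw [← hq w hw, ew, A.q_inv x _ (hψ.lt v (l2 hv)), hq v (l2 hv)]
      have e3 : qW ε b = qW ε c := by rw [← hq b hb2.1, ← ec', A.q_inv x _ (hψ.lt c hc), hq c hc]
      show qW ε (w ^^^ b) ^^^ qW ε w ^^^ qW ε b = 0
      rw [e1, e2, e3]
      exact high_low ε hε v hv c (high_list c hc hc0)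
    exact ⟨key 64 (by simp), key 128 (by simp)⟩
  have cz : ∀ {h : G}, Commute h D.z → h ∈ Subgroup.centralizer ({D.z} : Set G) :=
    fun hh => Subgroup.mem_centralizer_singleton_iff.mpr hh
  have hact : ∀ (h : G) (hh : Commute h D.z), ∀ v < 256, A.act (π ⟨h, cz hh⟩) v = D.act h v :=
    fun h hh v hv => action_act D π hπ hk ⟨h, cz hh⟩ hv
  refine six_isolated D hε hψ hq (fun h hh v hv => ?_) (fun h hh v hv hv0 => ?_) (fun g hg => ?_) (fun h hh hl => ?_) f hf
  · obtain ⟨w, hw, ew⟩ := hW (π ⟨h, cz hh⟩) v hv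
    exact ⟨w, hw, by rw [← hact h hh _ (hψ.lt v (l2 hv)), ew]⟩
  · obtain ⟨w, hw, hw0, ew⟩ := hU (π ⟨h, cz hh⟩) v hv hv0
    exact ⟨w, hw, hw0, by rw [← hact h hh _ (hψ.lt v hv), ew]⟩
  · rw [← hrange] at hg
    obtain ⟨n, rfl⟩ := hg
    obtain ⟨h, hh⟩ := hπ n.1
    have hz : Commute (h : G) D.z := Subgroup.mem_centralizer_singleton_iff.mp h.2
    refine ⟨h, hz, fun v hv => ?_, fun v hv hv0 => ?_⟩
    · rw [← hact h hz _ (hψ.lt v (l2 hv))]
      show A.act (π h) _ = _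
      rw [hh]; exact hs n v hv
    · rw [← hact h hz _ (hψ.lt v hv)]
      show A.act (π h) _ = _
      rw [hh]; exact hfix n.1 n.2 v hv hv0
  · set x := π ⟨h, cz hh⟩ with hx
    have hxl : ∀ v < 64, A.act x (ψ v) = ψ v := fun v hv => by rw [hact h hh _ (hψ.lt v (l2 hv)), hl v hv]
    refine (hk ⟨h, cz hh⟩).mp (hcent x fun n hn => ?_)
    have hm : x * n * x⁻¹ * n⁻¹ ∈ N := mul_mem (hNn.conj_mem n hn x) (inv_mem hn)
    have h1 := whole _ hm fun v hv => by
      obtain ⟨w, hw, ew⟩ := hlow n⁻¹ (inv_mem hn) v hv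
      have ew' : A.act n (ψ w) = ψ v := by
        rw [← ew, ← A.mul _ _ _ (hψ.lt v (l2 hv)), mul_inv_cancel, A.one _ (hψ.lt v (l2 hv))]
      have hxi : A.act x⁻¹ (ψ w) = ψ w := by
        conv_lhs => rw [← hxl w hw]
        rw [← A.mul _ _ _ (hψ.lt w (l2 hw)), inv_mul_cancel, A.one _ (hψ.lt w (l2 hw))]
      rw [A.mul _ _ _ (hψ.lt v (l2 hv)), ew, A.mul _ _ _ (hψ.lt w (l2 hw)), hxi, A.mul _ _ _ (hψ.lt w (l2 hw)), ew', hxl v hv]
    exact mul_inv_eq_iff_eq_mul.mp (by rwa [mul_inv_eq_one] at h1)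

include hπ hk in
/-- The involution is isolated, or the subgroup of index two extends. -/
theorem extend {F : Type*} [Field F] [Fintype F] (hF : Fintype.card F = 3) (hN : N.index = 2)
    (eN : Cfsg.PSp 2 F ≃* ↥N) (hcent : ∀ x : X, (∀ n ∈ N, x * n = n * x) → x = 1) (hz : orderOf D.z = 2)
    (hext : Cfsg.IsExtraspecial 2 ↥D.J) (hC : Subgroup.centralizer (D.J : Set G) ≤ D.J) :
    (∀ g : G, Commute (g * D.z * g⁻¹) D.z → g * D.z * g⁻¹ = D.z) ∨
      ∃ G0 : Subgroup G, G0.index = 2 ∧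
        ∀ (h : G) (hh : h ∈ Subgroup.centralizer ({D.z} : Set G)), h ∈ G0 ↔ π ⟨h, hh⟩ ∈ N := by
  classical
  have cN : Nat.card N = 25920 := (Nat.card_congr eN.toEquiv).symm.trans (U42Act.card_psp hF)
  haveI := U42Act.psp_simple hF
  haveI : Nontrivial ↥N := eN.symm.toEquiv.nontrivial
  have hsimp : IsSimpleGroup ↥N := IsSimpleGroup.isSimpleGroup_of_surjective eN.toMonoidHom eN.surjective
  rcases U42Act.ident hF eN.symm (sub D π hπ hk N) with hA | hA
  · right
    obtain ⟨Fr, rfl, hIn⟩ := natural_frame D π hπ hk N hN cN hA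
    obtain ⟨G0, h1, h2⟩ := exists_index_two (E := Fr.D.J) hz
      (fun j hj => Subgroup.mem_centralizer_singleton_iff.mpr (Fr.D.Jz j hj).eq) Fr.D.zJ
      (fun g hg e he => Fr.D.conjJ g (Subgroup.mem_centralizer_singleton_iff.mp hg) e he) hext hC (k := 9)
      (by rw [Fr.D.Jcard]; norm_num) (by norm_num) (N.comap π) (by rw [Subgroup.index_comap_of_surjective _ hπ, hN])
      (fun x hx hne e he hc hm => by
        obtain ⟨hg, hgN⟩ := (hIn _).mp (Fr.inner hx hne he hc)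
        exact Subgroup.mem_comap.mpr hgN)
    exact ⟨G0, h1, fun h hh => (h2 h hh).trans Subgroup.mem_comap⟩
  · exact Or.inl (fixed_isolated D π hπ hk N hN hsimp cN hcent hA)

end CfsgLib.U6Chz.Aut
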